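import Cfsg.Agent.H381.SzCore
import Cfsg.Agent.H98.SzPartition
import Cfsg.Agent.OddCyclic.T1SzFacts
import Cfsg.Agent.OddCyclic.ClaimC.SzIso
import Cfsg.Agent.S0333
import Cfsg.Agent.S1162

/-!
# Element orders of the Suzuki groups and the type function
-/

set_option autoImplicit false
set_option linter.unusedSectionVars false

namespace Cfsg.Agent.H381.SzSpec

open Subgroup
open Cfsg.Agent.H98.SzPartition (torusOrders mem_torusOrders_iff odd_of_mem one_lt_of_mem eq_of_prime_dvd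
  sylow_or_torus)
open Cfsg.Agent.LieRecognition.SzMatrix (good)
open Cfsg.Agent.ThreePrime.SzRel (ofGood)
open Cfsg.Agent.H381.SzCore

/-- the Suzuki group -/
abbrev LS (F : Type*) [Field F] (m : ℕ) : Type _ := ↥(Cfsg.Lie.Sz F (2 ^ (m + 1)))

variable {F : Type*} [Field F] [Fintype F] {m : ℕ}

/-- the type of a prime -/
def ty (m p : ℕ) : ℕ :=
  if p = 2 then 0 else if p ∣ 2 ^ (2 * m + 1) - 1 then 1 else
    if p ∣ 2 ^ (2 * m + 1) - 2 ^ (m + 1) + 1 then 2 else
      if p ∣ 2 ^ (2 * m + 1) + 2 ^ (m + 1) + 1 then 3 else 4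

theorem ty_two (m : ℕ) : ty m 2 = 0 := by simp [ty]

theorem mem_one (m : ℕ) : 2 ^ (2 * m + 1) - 1 ∈ torusOrders m := Or.inl rfl
theorem mem_two (m : ℕ) : 2 ^ (2 * m + 1) - 2 ^ (m + 1) + 1 ∈ torusOrders m := Or.inr (Or.inr rfl)
theorem mem_three (m : ℕ) : 2 ^ (2 * m + 1) + 2 ^ (m + 1) + 1 ∈ torusOrders m := Or.inr (Or.inl rfl)

theorem ne_two {n p : ℕ} (hn : n ∈ torusOrders m) (h : p ∣ n) : p ≠ 2 := by
  rintro rfl
  exact (Nat.not_even_iff_odd.mpr (odd_of_mem hn)) (even_iff_two_dvd.mpr h)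

theorem one_ne_two (hm : 1 ≤ m) : 2 ^ (2 * m + 1) - 1 ≠ 2 ^ (2 * m + 1) - 2 ^ (m + 1) + 1 := by
  have h1 : 2 ^ (m + 1) ≤ 2 ^ (2 * m + 1) := Nat.pow_le_pow_right (by norm_num) (by omega)
  have h2 : 2 ^ 2 ≤ 2 ^ (m + 1) := Nat.pow_le_pow_right (by norm_num) (by omega)
  generalize 2 ^ (m + 1) = r at *
  generalize 2 ^ (2 * m + 1) = q at *
  omega

theorem one_ne_three (m : ℕ) : 2 ^ (2 * m + 1) - 1 ≠ 2 ^ (2 * m + 1) + 2 ^ (m + 1) + 1 := by
  have := Nat.one_le_two_pow (n := 2 * m + 1)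
  generalize 2 ^ (m + 1) = r at *
  generalize 2 ^ (2 * m + 1) = q at *
  omega

theorem two_ne_three (m : ℕ) :
    2 ^ (2 * m + 1) - 2 ^ (m + 1) + 1 ≠ 2 ^ (2 * m + 1) + 2 ^ (m + 1) + 1 := by
  have := Nat.one_le_two_pow (n := m + 1)
  generalize 2 ^ (m + 1) = r at *
  generalize 2 ^ (2 * m + 1) = q at *
  omega

theorem ty_one {p : ℕ} (h : p ∣ 2 ^ (2 * m + 1) - 1) : ty m p = 1 := by
  have := ne_two (mem_one m) h
  simp [ty, this, h]

theorem ty_eq_two (hm : 1 ≤ m) {p : ℕ} (hp : p.Prime) (h : p ∣ 2 ^ (2 * m + 1) - 2 ^ (m + 1) + 1) : ty m p = 2 := by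
  have h2 := ne_two (mem_two m) h
  have h1 : ¬ p ∣ 2 ^ (2 * m + 1) - 1 := fun h1 =>
    one_ne_two hm (eq_of_prime_dvd (mem_one m) (mem_two m) hp h1 h)
  simp [ty, h2, h1, h]

theorem ty_three {p : ℕ} (hp : p.Prime) (h : p ∣ 2 ^ (2 * m + 1) + 2 ^ (m + 1) + 1) : ty m p = 3 := by
  have h2 := ne_two (mem_three m) h
  have h1 : ¬ p ∣ 2 ^ (2 * m + 1) - 1 := fun h1 =>
    one_ne_three m (eq_of_prime_dvd (mem_one m) (mem_three m) hp h1 h)
  have h3 : ¬ p ∣ 2 ^ (2 * m + 1) - 2 ^ (m + 1) + 1 := fun h3 =>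
    two_ne_three m (eq_of_prime_dvd (mem_two m) (mem_three m) hp h3 h)
  simp [ty, h2, h1, h, h3]

theorem ty_of_mem (hm : 1 ≤ m) {n : ℕ} (hn : n ∈ torusOrders m) : ∃ i, 1 ≤ i ∧ i < 4 ∧
    ∀ p : ℕ, p.Prime → p ∣ n → ty m p = i := by
  rcases (mem_torusOrders_iff m n).1 hn with rfl | rfl | rfl
  · exact ⟨1, le_rfl, by norm_num, fun p _ h => ty_one h⟩
  · exact ⟨3, by norm_num, by norm_num, fun p hp h => ty_three hp h⟩
  · exact ⟨2, by norm_num, by norm_num, fun p hp h => ty_eq_two hm hp h⟩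

theorem dvd_of_ty_one {p : ℕ} (h : ty m p = 1) : p ∣ 2 ^ (2 * m + 1) - 1 := by
  by_contra hcon
  by_cases h2 : p = 2
  · rw [h2, ty_two] at h; omega
  · unfold ty at h
    rw [if_neg h2, if_neg hcon] at h
    split_ifs at h <;> omega

/-- a prime of the form `2 ^ k + 1`-divisor does not divide `2 ^ odd - 1` -/
theorem not_dvd_of_odd {p k n : ℕ} (hp2 : p ≠ 2) (hp : p.Prime) (hn : Odd n) (h1 : p ∣ 2 ^ k + 1) :
    ¬ p ∣ 2 ^ n - 1 := by
  intro h2
  have hpf : Fact p.Prime := ⟨hp⟩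
  have e1 : (2 : ZMod p) ^ k = -1 := by
    have : ((2 ^ k + 1 : ℕ) : ZMod p) = 0 := (ZMod.natCast_eq_zero_iff _ _).mpr h1
    push_cast at this
    linear_combination this
  have e2 : (2 : ZMod p) ^ n = 1 := by
    have h3 : 1 ≤ 2 ^ n := Nat.one_le_two_pow
    have : ((2 ^ n - 1 : ℕ) : ZMod p) = 0 := (ZMod.natCast_eq_zero_iff _ _).mpr h2
    rw [Nat.cast_sub h3] at this
    push_cast at this
    linear_combination this
  have e3 : (-1 : ZMod p) = 1 := by
    calc (-1 : ZMod p) = (-1) ^ n := (hn.neg_one_pow).symm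
      _ = (2 ^ k) ^ n := by rw [e1]
      _ = (2 ^ n) ^ k := by rw [← pow_mul, ← pow_mul, mul_comm]
      _ = 1 := by rw [e2, one_pow]
  have e4 : ((2 : ℕ) : ZMod p) = 0 := by
    push_cast
    linear_combination -e3
  rw [ZMod.natCast_eq_zero_iff] at e4
  exact hp2 ((Nat.prime_dvd_prime_iff_eq hp Nat.prime_two).mp e4)

theorem tyHyp (m : ℕ) : TyHyp (ty m) where
  two := ty_two m
  eq_two p _ h := by
    by_contra hne
    unfold ty at h
    rw [if_neg hne] at h
    split_ifs at h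
  fermat p hp h n k hn hk he := by
    have hp2 : p ≠ 2 := by rintro rfl; rw [ty_two] at h; omega
    refine not_dvd_of_odd (k := k) hp2 hp (n := 2 * m + 1) ⟨m, rfl⟩ ?_ (dvd_of_ty_one h)
    have h1 : 1 ≤ p ^ n := Nat.one_le_pow _ _ hp.pos
    rw [← he, Nat.sub_add_cancel h1]
    exact dvd_pow_self p (by omega)

/-- the order of an element of `Sz(q)` divides `4` or a torus order -/
theorem spec (hm : 1 ≤ m) (hF : Fintype.card F = 2 ^ (2 * m + 1)) (g : LS F m) :
    orderOf g ∣ 4 ∨ ∃ n ∈ torusOrders m, orderOf g ∣ n := by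
  obtain ⟨e⟩ := Cfsg.Agent.OddCyclic.ClaimC.SzIso.iso hm hF
  by_cases hg : g = 1
  · left; rw [hg, orderOf_one]; exact one_dvd 4
  have hg' : e.symm g ≠ 1 := by
    intro h
    exact hg (e.symm.injective (by rw [h, map_one]))
  have ho : orderOf (e.symm g) = orderOf g := MulEquiv.orderOf_eq e.symm g
  rcases sylow_or_torus hm hF hg' with ⟨P, hP⟩ | ⟨-, h2⟩
  · left
    have h2f : Fact (Nat.Prime 2) := ⟨Nat.prime_two⟩
    obtain ⟨k, hk⟩ := P.2 ⟨_, hP⟩
    have h1 : (e.symm g) ^ 2 ^ k = 1 := congrArg Subtype.val hk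
    have h3 : orderOf g ∣ 2 ^ k := by rw [← ho]; exact orderOf_dvd_of_pow_eq_one h1
    let R := ofGood (good hF)
    obtain ⟨P₀, hP₀⟩ := R.exists_sylow_eq hm hF
    have hgp : IsPGroup 2 (zpowers g) := by
      obtain ⟨j, -, hj⟩ := (Nat.dvd_prime_pow Nat.prime_two).mp h3
      exact IsPGroup.of_card (n := j) (by rw [Nat.card_zpowers, hj])
    obtain ⟨P₁, hP₁⟩ := hgp.exists_le_sylow
    obtain ⟨x, hx⟩ := MulAction.exists_smul_eq (LS F m) P₁ P₀
    have h4 : x * g * x⁻¹ ∈ R.T := by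
      rw [← hP₀, ← hx, Sylow.coe_subgroup_smul, Subgroup.mem_pointwise_smul_iff_inv_smul_mem]
      have h5 : (MulAut.conj x)⁻¹ • (x * g * x⁻¹) = g := by
        show (MulAut.conj x)⁻¹ (x * g * x⁻¹) = g
        rw [← MulAut.conj_apply, MulAut.inv_apply_self]
      rw [h5]
      exact hP₁ (mem_zpowers g)
    have h6 := R.pow_four h4
    have h7 : orderOf (x * g * x⁻¹) = orderOf g := (MulAut.conj x).orderOf_eq g
    rw [← h7]
    exact orderOf_dvd_of_pow_eq_one h6
  · right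
    refine ⟨_, h2, ?_⟩
    rw [← ho]
    apply Subgroup.orderOf_dvd_natCard
    rw [mem_centralizer_singleton_iff]

/-- all primes dividing an element order of `Sz(q)` have the same type, which is at most 3 -/
theorem sep (hm : 1 ≤ m) (hF : Fintype.card F = 2 ^ (2 * m + 1)) (g : LS F m) :
    ∃ i : ℕ, i < 4 ∧ ∀ p : ℕ, p.Prime → p ∣ orderOf g → ty m p = i := by
  rcases spec hm hF g with h | ⟨n, hn, h⟩
  · refine ⟨0, by norm_num, fun p hp hpg => ?_⟩
    have h1 : p ∣ 2 ^ 2 := by norm_num; exact hpg.trans h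
    rw [(Nat.prime_dvd_prime_iff_eq hp Nat.prime_two).mp (hp.dvd_of_dvd_pow h1), ty_two]
  · obtain ⟨i, -, hi, h1⟩ := ty_of_mem hm hn
    exact ⟨i, hi, fun p hp hpg => h1 p hp (hpg.trans h)⟩

/-- the subgroup `5:4` -/
theorem exists_five (hF : Fintype.card F = 2 ^ (2 * m + 1)) :
    ∃ y s : LS F m, orderOf y = 5 ∧ orderOf s = 4 ∧ s * y * s⁻¹ = y ^ 3 := by
  have : Fact (Nat.Prime 2) := ⟨Nat.prime_two⟩
  have : Fact (Nat.Prime 5) := ⟨by norm_num⟩
  let H := good hF
  obtain ⟨h1, h2⟩ := Cfsg.Agent.OddCyclic.T1SzFacts.exists_five_good H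
  refine ⟨H.u 1 0 * H.u 1 0 * H.w, H.u 1 0, ?_, ?_, ?_⟩
  · apply orderOf_eq_prime
    · rw [← h2]
      simp only [pow_succ, pow_zero, one_mul]
    · intro h
      have h3 : H.w = (H.u 1 0 * H.u 1 0)⁻¹ := (inv_eq_of_mul_eq_one_right h).symm
      have h4 : H.w ∈ (ofGood H).T := by
        rw [h3]
        exact inv_mem (mul_mem ((ofGood H).u_mem 1 0) ((ofGood H).u_mem 1 0))
      exact (ofGood H).w_not_mem_normalizer (Subgroup.le_normalizer h4)
  · have hss : H.u 1 0 * H.u 1 0 ≠ 1 := by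
      intro h
      have := ((ofGood H).u_sq_iff 1 0).1 h
      exact one_ne_zero this
    have h3 := orderOf_eq_prime_pow (p := 2) (n := 1) (x := H.u 1 0) (by
      rw [pow_one, pow_two]
      exact hss) (by
      exact (ofGood H).pow_four ((ofGood H).u_mem 1 0))
    rw [h3]
    norm_num
  · rw [h1, mul_inv_cancel_right]
    simp only [pow_succ, pow_zero, one_mul]

/-- torus orders are element orders -/
theorem exists_torus (hm : 1 ≤ m) (hF : Fintype.card F = 2 ^ (2 * m + 1)) {n : ℕ}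
    (hn : n ∈ torusOrders m) : ∃ g : LS F m, orderOf g = n := by
  obtain ⟨e⟩ := Cfsg.Agent.OddCyclic.ClaimC.SzIso.iso hm hF
  have key : ∀ U : Subgroup (Cfsg.Sz F m), IsCyclic U → Nat.card U = n → ∃ g : LS F m, orderOf g = n := by
    intro U hU hc
    have hn0 : Nat.card U ≠ 0 := by rw [hc]; have := one_lt_of_mem hm hn; omega
    have : Finite U := Nat.finite_of_card_ne_zero hn0
    obtain ⟨g, hg⟩ := IsCyclic.exists_ofOrder_eq_natCard (α := U)
    refine ⟨e g, ?_⟩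
    rw [MulEquiv.orderOf_eq, Subgroup.orderOf_coe, hg, hc]
  rcases (mem_torusOrders_iff m n).1 hn with h | h
  · exact key _ (Cfsg.Agent.H98.SzBasic.isCyclic_T hF) (by rw [Cfsg.Agent.H98.SzBasic.card_T, h])
  · obtain ⟨U, h1, h2, -⟩ := Cfsg.Agent.S0333.result hm hF n (by simpa using h)
    exact key U h1 h2

/-- exponents of the primes in `q - 1` -/
def vv (m p : ℕ) : ℕ := (2 ^ (2 * m + 1) - 1).factorization p

theorem pos_one (m : ℕ) : 2 ^ (2 * m + 1) - 1 ≠ 0 := by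
  have h : 2 ^ 1 ≤ 2 ^ (2 * m + 1) := Nat.pow_le_pow_right (by norm_num) (by omega)
  omega

theorem one_le_vv {p : ℕ} (hp : p.Prime) (h : ty m p = 1) : 1 ≤ vv m p :=
  (hp.dvd_iff_one_le_factorization (pos_one m)).mp (dvd_of_ty_one h)

/-- the torus homomorphism -/
def dHom {J : Type*} [Group J] (R : Cfsg.Agent.ThreePrime.SzRel.Rel J F) : Fˣ →* J where
  toFun := R.d
  map_one' := R.d_one
  map_mul' k l := (R.d_mul k l).symm

theorem dHom_injective {J : Type*} [Group J] (R : Cfsg.Agent.ThreePrime.SzRel.Rel J F) :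
    Function.Injective (dHom R) := fun _ _ h => R.d_inj h

theorem lhyp (hm : 1 ≤ m) (hF : Fintype.card F = 2 ^ (2 * m + 1)) :
    LHyp (ty m) (vv m) (LS F m) where
  simple := Cfsg.Agent.S1162.result hm hF
  four := by
    obtain ⟨y, s, hy, hs, hsy⟩ := exists_five (F := F) (m := m) hF
    have hy5 : y ^ 5 = 1 := by rw [← hy]; exact pow_orderOf_eq_one y
    have hs2 : s ^ 2 * y * (s ^ 2)⁻¹ = y ^ 4 := by
      have e1 : s ^ 2 * y * (s ^ 2)⁻¹ = s * (s * y * s⁻¹) * s⁻¹ := by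
        rw [pow_two, mul_inv_rev]; simp only [mul_assoc]
      have e2 : s * y ^ 3 * s⁻¹ = (s * y * s⁻¹) ^ 3 := conj_pow.symm
      rw [e1, hsy, e2, hsy, ← pow_mul]
      calc y ^ (3 * 3) = y ^ 5 * y ^ 4 := by rw [← pow_add]
        _ = y ^ 4 := by rw [hy5, one_mul]
    have hs4 : s ^ 4 = 1 := orderOf_dvd_iff_pow_eq_one.mp (by rw [hs])
    refine ⟨5, by norm_num, by norm_num, by norm_num, zpowers y, s, y, ?_, ?_, hs, mem_zpowers y, ?_⟩
    · exact IsPGroup.of_card (n := 1) (by rw [Nat.card_zpowers, hy, pow_one])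
    · apply Cfsg.Agent.OddOrderLocal.Thm34.mem_normalizer_of_conj (r := 4) (by norm_num)
        hs4
      intro k hk
      obtain ⟨n, rfl⟩ := mem_zpowers_iff.mp hk
      rw [← conj_zpow, hsy]
      exact zpow_mem (pow_mem (mem_zpowers y) 3) n
    · intro h
      have h1 : s ^ 2 * y * (s ^ 2)⁻¹ = y := by rw [h.eq, mul_inv_cancel_right]
      rw [hs2] at h1
      have h2 : y ^ 3 = 1 := by
        have h3 : y ^ 4 = y ^ 3 * y := pow_succ y 3
        rw [h3] at h1
        exact mul_eq_right.mp h1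
      have h4 := orderOf_dvd_of_pow_eq_one h2
      rw [hy] at h4
      omega
  bor p hp h1 _ := by
    refine ⟨one_le_vv hp h1, ?_⟩
    let R := ofGood (good hF)
    -- an element of order `p ^ v`
    have hcard : Nat.card Fˣ = 2 ^ (2 * m + 1) - 1 := by
      rw [Nat.card_units, Nat.card_eq_fintype_card, hF]
    obtain ⟨g, hg⟩ := IsCyclic.exists_ofOrder_eq_natCard (α := Fˣ)
    have hdvd : p ^ vv m p ∣ orderOf g := by
      rw [hg, hcard]
      exact Nat.ordProj_dvd _ _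
    set k : Fˣ := g ^ (orderOf g / p ^ vv m p) with hk
    have hko : orderOf k = p ^ vv m p := orderOf_pow_orderOf_div (orderOf_pos g).ne' hdvd
    refine ⟨R.T, R.d k, R.u 0 1, R.isPGroup, R.D_le (R.d_mem k), ?_, R.u_mem 0 1, ?_⟩
    · have : R.d k = dHom R k := rfl
      rw [this, orderOf_injective (dHom R) (dHom_injective R), hko]
    · intro hc
      have h2 : R.d k ^ (p ^ (vv m p - 1)) = R.d (k ^ (p ^ (vv m p - 1))) :=
        ((dHom R).map_pow k _).symm
      rw [h2] at hc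
      have h3 : R.d (k ^ (p ^ (vv m p - 1))) * R.u 0 1 * (R.d (k ^ (p ^ (vv m p - 1))))⁻¹ = R.u 0 1 := by
        rw [hc.eq, mul_inv_cancel_right]
      rcases R.fpf h3 with h4 | h4
      · have h5 := orderOf_dvd_of_pow_eq_one h4
        rw [hko] at h5
        have h6 := (Nat.pow_dvd_pow_iff_le_right hp.one_lt).mp h5
        have := one_le_vv hp h1
        omega
      · exact one_ne_zero h4.2
  rep i hi := by
    have hfin : Finite (LS F m) := inferInstance
    by_cases h0 : i = 0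
    · obtain ⟨y, s, hy, hs, hsy⟩ := exists_five (F := F) (m := m) hF
      refine ⟨2, Nat.prime_two, by rw [h0, ty_two], ?_⟩
      have := orderOf_dvd_natCard s
      rw [hs] at this
      exact dvd_trans (by norm_num) this
    · have key : ∀ n ∈ torusOrders m, (∀ p : ℕ, p.Prime → p ∣ n → ty m p = i) →
          ∃ p : ℕ, p.Prime ∧ ty m p = i ∧ p ∣ Nat.card (LS F m) := by
        intro n hn h
        obtain ⟨p, hp, hpn⟩ := Nat.exists_prime_and_dvd (one_lt_of_mem hm hn).ne'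
        obtain ⟨g, hg⟩ := exists_torus (F := F) hm hF hn
        exact ⟨p, hp, h p hp hpn, hpn.trans (hg ▸ orderOf_dvd_natCard g)⟩
      have h123 : i = 1 ∨ i = 2 ∨ i = 3 := by omega
      rcases h123 with rfl | rfl | rfl
      · exact key _ (mem_one m) fun p _ h => ty_one h
      · exact key _ (mem_two m) fun p hp h => ty_eq_two hm hp h
      · exact key _ (mem_three m) fun p hp h => ty_three hp h

theorem pow_dvd_lcm {p k a b : ℕ} (hp : p.Prime) (ha : a ≠ 0) (hb : b ≠ 0) (h : p ^ k ∣ a.lcm b) :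
    p ^ k ∣ a ∨ p ^ k ∣ b := by
  rw [hp.pow_dvd_iff_le_factorization (Nat.lcm_ne_zero ha hb), Nat.factorization_lcm ha hb] at h
  rw [hp.pow_dvd_iff_le_factorization ha, hp.pow_dvd_iff_le_factorization hb]
  rw [Finsupp.sup_apply] at h
  exact le_sup_iff.mp h

/-- element orders of a group with the element orders of `Sz(q) × Sz(q)` -/
theorem whyp (hm : 1 ≤ m) (hF : Fintype.card F = 2 ^ (2 * m + 1)) {E : Type*} [Group E]
    (h : ∀ g : E, ∃ x : LS F m × LS F m, orderOf g = orderOf x) : WHyp (ty m) (vv m) E where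
  pi g p hp hpg := by
    obtain ⟨⟨a, b⟩, hx⟩ := h g
    rw [hx, Prod.orderOf_mk] at hpg
    rcases (hp.dvd_lcm).mp hpg with h1 | h1
    · obtain ⟨i, hi, h2⟩ := sep hm hF a
      rw [h2 p hp h1]; exact hi
    · obtain ⟨i, hi, h2⟩ := sep hm hF b
      rw [h2 p hp h1]; exact hi
  triple g a b c ha hb hc hag hbg hcg := by
    obtain ⟨⟨x, y⟩, hx⟩ := h g
    rw [hx, Prod.orderOf_mk] at hag hbg hcg
    obtain ⟨i, hi, h2⟩ := sep hm hF x
    obtain ⟨j, hj, h3⟩ := sep hm hF y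
    have key : ∀ p : ℕ, p.Prime → p ∣ (orderOf x).lcm (orderOf y) → ty m p = i ∨ ty m p = j := by
      intro p hp hpd
      rcases (hp.dvd_lcm).mp hpd with h1 | h1
      · exact Or.inl (h2 p hp h1)
      · exact Or.inr (h3 p hp h1)
    rcases key a ha hag with h4 | h4 <;> rcases key b hb hbg with h5 | h5 <;>
      rcases key c hc hcg with h6 | h6 <;> simp [h4, h5, h6]
  eight g h8 := by
    obtain ⟨⟨x, y⟩, hx⟩ := h g
    rw [hx, Prod.orderOf_mk] at h8
    have h8' : 2 ^ 3 ∣ (orderOf x).lcm (orderOf y) := by norm_num; exact h8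
    have hnot : ∀ z : LS F m, ¬ 2 ^ 3 ∣ orderOf z := by
      intro z hz
      rcases spec hm hF z with h1 | ⟨n, hn, h1⟩
      · have := hz.trans h1
        norm_num at this
      · exact ne_two hn ((dvd_pow_self 2 (by norm_num)).trans (hz.trans h1)) rfl
    rcases pow_dvd_lcm Nat.prime_two (orderOf_pos x).ne' (orderOf_pos y).ne' h8' with h1 | h1
    · exact hnot x h1
    · exact hnot y h1
  bexp g p hp h1 hd := by
    obtain ⟨⟨x, y⟩, hx⟩ := h g
    rw [hx, Prod.orderOf_mk] at hd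
    have hnot : ∀ z : LS F m, ¬ p ^ (vv m p + 1) ∣ orderOf z := by
      intro z hz
      have hpz : p ∣ orderOf z := (dvd_pow_self p (by omega)).trans hz
      rcases spec hm hF z with h2 | ⟨n, hn, h2⟩
      · have h3 : p ∣ 2 ^ 2 := by norm_num; exact hpz.trans h2
        have h4 := (Nat.prime_dvd_prime_iff_eq hp Nat.prime_two).mp (hp.dvd_of_dvd_pow h3)
        rw [h4, ty_two] at h1
        omega
      · have h3 := eq_of_prime_dvd hn (mem_one m) hp (hpz.trans h2) (dvd_of_ty_one h1)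
        rw [h3] at h2
        have h4 := hz.trans h2
        have h5 := (hp.pow_dvd_iff_le_factorization (pos_one m)).mp h4
        unfold vv at h5
        omega
    rcases pow_dvd_lcm hp (orderOf_pos x).ne' (orderOf_pos y).ne' hd with h2 | h2
    · exact hnot x h2
    · exact hnot y h2

end Cfsg.Agent.H381.SzSpec
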