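import Cfsg.Agent.H381.SzSpec
import Cfsg.Agent.H507.SzCase
import Cfsg.Agent.H70.SzOut
import Cfsg.Agent.Mrg.Omega.TwoFFour.SzNatC

/-!
# Components of a group with the element orders of `Sz(q) × Sz(q)`
-/

set_option autoImplicit false
set_option linter.unusedSectionVars false

namespace Cfsg.Agent.H381.SzComp

open Subgroup
open Cfsg (IsComponent layer fittingSubgroup generalizedFittingSubgroup)
open Cfsg.Agent.SignalizersComponents
open Cfsg.Agent.H98.SzPartition (torusOrders mem_torusOrders_iff odd_of_mem one_lt_of_mem eq_of_prime_dvd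
  sylow_or_torus)
open Cfsg.Agent.H381.SzSpec
open Cfsg.Agent.H381.SzCore
open Cfsg.Agent.H381.Cover

universe u

variable {F : Type*} [Field F] [Fintype F] {m : ℕ}

/-- the element orders of `Q` are element orders of `Sz(q) × Sz(q)` -/
def OrdLe (F : Type*) [Field F] (m : ℕ) (Q : Type*) [Group Q] : Prop :=
  ∀ g : Q, ∃ x : LS F m × LS F m, orderOf g = orderOf x

theorem OrdLe.map {G Q : Type*} [Group G] [Finite G] [Group Q] (h : OrdLe F m G) {f : G →* Q}
    (hf : Function.Surjective f) : OrdLe F m Q := by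
  intro g
  obtain ⟨x, rfl⟩ := hf g
  obtain ⟨y, hy⟩ := h (x ^ (orderOf x / orderOf (f x)))
  refine ⟨y, hy ▸ ?_⟩
  exact (orderOf_pow_orderOf_div (orderOf_pos x).ne' (orderOf_map_dvd f x)).symm

theorem OrdLe.whyp (hm : 1 ≤ m) (hF : Fintype.card F = 2 ^ (2 * m + 1)) {Q : Type*} [Group Q]
    (h : OrdLe F m Q) : WHyp (ty m) (vv m) Q := SzSpec.whyp hm hF h

theorem ty_three_eq (m : ℕ) : ty m 3 = 4 := by
  have e1 : 2 ^ (2 * m + 1) % 3 = 2 := by
    rw [pow_succ, pow_mul, Nat.mul_mod, Nat.pow_mod]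
    norm_num
  have e2 : 2 ^ (m + 1) % 3 ≠ 0 := by
    intro h
    have h1 : 3 ∣ 2 ^ (m + 1) := Nat.dvd_of_mod_eq_zero h
    have h2 := Nat.Prime.dvd_of_dvd_pow (by norm_num : Nat.Prime 3) h1
    norm_num at h2
  have e3 : 2 ^ (m + 1) ≤ 2 ^ (2 * m + 1) := Nat.pow_le_pow_right (by norm_num) (by omega)
  unfold ty
  generalize 2 ^ (m + 1) = r at *
  generalize 2 ^ (2 * m + 1) = q at *
  rw [if_neg (by norm_num), if_neg (by omega), if_neg (by omega), if_neg (by omega)]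

theorem OrdLe.three (hm : 1 ≤ m) (hF : Fintype.card F = 2 ^ (2 * m + 1)) {Q : Type*} [Group Q]
    [Finite Q] (h : OrdLe F m Q) : ¬ 3 ∣ Nat.card Q := by
  intro h3
  have : Fact (Nat.Prime 3) := ⟨by norm_num⟩
  obtain ⟨g, hg⟩ := exists_prime_orderOf_dvd_card' 3 h3
  have := (h.whyp hm hF).pi g 3 (by norm_num) (by rw [hg])
  rw [ty_three_eq] at this
  omega

theorem mul_eq (m : ℕ) : (2 ^ (2 * m + 1) + 2 ^ (m + 1) + 1) * (2 ^ (2 * m + 1) - 2 ^ (m + 1) + 1) =
    2 ^ (2 * (2 * m + 1)) + 1 := by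
  have e3 : 2 ^ (m + 1) ≤ 2 ^ (2 * m + 1) := Nat.pow_le_pow_right (by norm_num) (by omega)
  obtain ⟨d, hd⟩ := Nat.exists_eq_add_of_le e3
  have e4 : 2 ^ (2 * (2 * m + 1)) = 2 ^ (2 * m + 1) * 2 ^ (2 * m + 1) := by ring
  have e5 : 2 ^ (m + 1) * 2 ^ (m + 1) = 2 * 2 ^ (2 * m + 1) := by ring
  rw [e4]
  generalize 2 ^ (m + 1) = r at hd e5 ⊢
  generalize 2 ^ (2 * m + 1) = q at hd e5 ⊢
  subst hd
  rw [Nat.add_sub_cancel_left]
  nlinarith

/-- elements of order dividing `2 ^ k - 1` in `Sz(q)` -/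
theorem dvd_one_of_coprime (hm : 1 ≤ m) (hF : Fintype.card F = 2 ^ (2 * m + 1)) {N : ℕ}
    (h2 : ∀ p : ℕ, p.Prime → p ∣ N → ∃ k : ℕ, Odd k ∧ p ∣ 2 ^ k - 1) (x : LS F m) (hx : orderOf x ∣ N)
    (hN : Odd N) : orderOf x ∣ 2 ^ (2 * m + 1) - 1 := by
  have hprod : ∀ p : ℕ, p.Prime → p ∣ 2 ^ (2 * m + 1) + 2 ^ (m + 1) + 1 ∨
      p ∣ 2 ^ (2 * m + 1) - 2 ^ (m + 1) + 1 → ¬ p ∣ N := by
    intro p hp hd hpN
    obtain ⟨k, hk, hpk⟩ := h2 p hp hpN
    have hp2 : p ≠ 2 := by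
      rintro rfl
      exact (Nat.not_even_iff_odd.mpr hN) (even_iff_two_dvd.mpr hpN)
    refine not_dvd_of_odd (k := 2 * (2 * m + 1)) hp2 hp hk ?_ hpk
    rw [← mul_eq m]
    rcases hd with h | h
    · exact h.mul_right _
    · exact h.mul_left _
  rcases spec hm hF x with h | ⟨n, hn, h⟩
  · have h1 : orderOf x = 1 := by
      have h3 : (orderOf x).Coprime (2 ^ 2) := by
        apply Nat.Coprime.pow_right
        rw [Nat.coprime_two_right]
        exact hN.of_dvd_nat hx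
      have h4 : orderOf x ∣ 2 ^ 2 := by norm_num; exact h
      exact Nat.Coprime.eq_one_of_dvd h3 h4
    rw [h1]
    exact one_dvd _
  · rcases (mem_torusOrders_iff m n).1 hn with rfl | rfl | rfl
    · exact h
    · have h1 : orderOf x = 1 := by
        by_contra hne
        obtain ⟨p, hp, hpx⟩ := Nat.exists_prime_and_dvd hne
        exact hprod p hp (Or.inl (hpx.trans h)) (hpx.trans hx)
      rw [h1]; exact one_dvd _
    · have h1 : orderOf x = 1 := by
        by_contra hne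
        obtain ⟨p, hp, hpx⟩ := Nat.exists_prime_and_dvd hne
        exact hprod p hp (Or.inr (hpx.trans h)) (hpx.trans hx)
      rw [h1]; exact one_dvd _

/-- a Suzuki subgroup is over a subfield -/
theorem sub_dvd (hm : 1 ≤ m) (hF : Fintype.card F = 2 ^ (2 * m + 1)) {Q : Type*} [Group Q]
    (hQ : OrdLe F m Q) {F' : Type*} [Field F'] [Fintype F'] {m' : ℕ} (hm' : 1 ≤ m')
    (hF' : Fintype.card F' = 2 ^ (2 * m' + 1)) {ι : LS F' m' →* Q} (hι : Function.Injective ι) :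
    (2 * m' + 1) ∣ (2 * m + 1) := by
  obtain ⟨g, hg⟩ := exists_torus (F := F') hm' hF' (mem_one m')
  obtain ⟨⟨x, y⟩, hxy⟩ := hQ (ι g)
  rw [orderOf_injective ι hι, hg, Prod.orderOf_mk] at hxy
  have hodd : Odd (2 ^ (2 * m' + 1) - 1) := odd_of_mem (mem_one m')
  have key : ∀ z : LS F m, orderOf z ∣ 2 ^ (2 * m' + 1) - 1 → orderOf z ∣ 2 ^ (2 * m + 1) - 1 := by
    intro z hz
    exact dvd_one_of_coprime hm hF (fun p _ hp => ⟨2 * m' + 1, ⟨m', rfl⟩, hp⟩) z hz hodd
  have h1 : 2 ^ (2 * m' + 1) - 1 ∣ 2 ^ (2 * m + 1) - 1 := by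
    rw [hxy]
    exact Nat.lcm_dvd (key x (hxy ▸ Nat.dvd_lcm_left _ _)) (key y (hxy ▸ Nat.dvd_lcm_right _ _))
  have h2 := Nat.pow_sub_one_gcd_pow_sub_one 2 (2 * m' + 1) (2 * m + 1)
  rw [Nat.gcd_eq_left h1] at h2
  have h3 : 2 ^ (2 * m' + 1) = 2 ^ ((2 * m' + 1).gcd (2 * m + 1)) := by
    have a1 := Nat.one_le_two_pow (n := 2 * m' + 1)
    have a2 := Nat.one_le_two_pow (n := (2 * m' + 1).gcd (2 * m + 1))
    omega
  have h4 := Nat.pow_right_injective (le_refl 2) h3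
  exact Nat.gcd_eq_left_iff_dvd.mp h4.symm

/-- components are Suzuki groups over subfields -/
theorem component (hm : 1 ≤ m) (hF : Fintype.card F = 2 ^ (2 * m + 1)) {Q : Type*} [Group Q]
    [Finite Q] (hQ : OrdLe F m Q) (hfit : fittingSubgroup Q = ⊥) {K : Subgroup Q}
    (hK : IsComponent K) :
    ∃ (F' : Type) (_ : Field F') (_ : Fintype F') (m' : ℕ), 1 ≤ m' ∧
      Fintype.card F' = 2 ^ (2 * m' + 1) ∧ (2 * m' + 1) ∣ (2 * m + 1) ∧ Nonempty (K ≃* LS F' m') := by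
  have h1 := Cfsg.Agent.H507.SzCase.component_simple hfit hK
  obtain ⟨F', hf, hff, m', hm', hF', ⟨e⟩⟩ := ThreePrime.Main.isoSuzuki (G := K) (by
    by_contra hcon
    push Not at hcon
    exact Components.quasisimple_not_isMulCommutative hK.2 ⟨⟨hcon⟩⟩)
    (fun hd => (hQ.three hm hF) (hd.trans (Subgroup.card_subgroup_dvd_card K)))
  refine ⟨F', hf, hff, m', hm', hF', ?_, ⟨e⟩⟩
  exact sub_dvd hm hF hQ hm' hF' (ι := K.subtype.comp e.symm.toMonoidHom)
    (K.subtype_injective.comp e.symm.injective)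

/-- components have full field if the exponent is prime -/
theorem iso_of_card_eq (hF : Fintype.card F = 2 ^ (2 * m + 1)) {F' : Type*} [Field F'] [Fintype F']
    (hF' : Fintype.card F' = 2 ^ (2 * m + 1)) : Nonempty (LS F' m ≃* LS F m) := by
  exact Cfsg.Agent.Omega.NO3S.OneQ.TIq.szCongr (FiniteField.ringEquivOfCardEq (hF'.trans hF.symm)) _

section quot

variable {G : Type*} [Group G] [Finite G]

theorem fitting_quot {S : Subgroup G} [S.Normal] (hS : Group.IsSolvable S)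
    (hmax : ∀ N : Subgroup G, N.Normal → Group.IsSolvable N → N ≤ S) :
    fittingSubgroup (G ⧸ S) = ⊥ := by
  apply Cfsg.Agent.H507.SzCase.fitting_eq_bot
  intro p hp N hN hNp
  have hpf : Fact p.Prime := ⟨hp⟩
  have h1 : N.comap (QuotientGroup.mk' S) ≤ S := by
    apply hmax _ inferInstance
    apply isSolvable_of_map (f := QuotientGroup.mk' S)
    · rw [QuotientGroup.ker_mk']; exact hS
    · rw [Subgroup.map_comap_eq_self_of_surjective (QuotientGroup.mk'_surjective S)]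
      have := hNp.isNilpotent
      infer_instance
  rw [eq_bot_iff]
  intro x hx
  obtain ⟨g, rfl⟩ := QuotientGroup.mk'_surjective S x
  rw [mem_bot]
  exact (QuotientGroup.eq_one_iff g).mpr (h1 hx)

theorem centralizer_layer (hfit : fittingSubgroup G = ⊥) :
    centralizer ((layer G : Subgroup G) : Set G) = ⊥ := by
  have h3 := Cfsg.Agent.S1265.result (G := G)
  rw [generalizedFittingSubgroup, hfit, sup_bot_eq] at h3
  have hn : (layer G).Normal := Components.layer_normal G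
  have h1 : Group.IsNilpotent (centralizer ((layer G : Subgroup G) : Set G)) :=
    Cfsg.Agent.H507.SzCase.isNilpotent_of_comm fun a b => Subtype.ext
      (mem_centralizer_iff.mp b.2 _ (h3 a.2))
  have h2 : centralizer ((layer G : Subgroup G) : Set G) ≤ fittingSubgroup G :=
    le_sSup ⟨inferInstance, h1⟩
  rw [hfit, le_bot_iff] at h2
  exact h2

end quot

end Cfsg.Agent.H381.SzComp
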