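import Cfsg.Agent.H381.Cover

/-!
# Extensions of a solvable group by Suzuki groups with restricted element orders

`ty` is the type of a prime (`0` for `2`, `1` for divisors of `q - 1`, `2`, `3` for the divisors of the two
factors of `q² + 1`); no element order is divisible by primes of three types.
-/

set_option autoImplicit false
set_option linter.unusedSectionVars false

namespace Cfsg.Agent.H381.SzCore

open Subgroup
open scoped commutatorElement
open Cfsg (piCoreOf fittingOf IsPiHallOf)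
open Cfsg.Agent.H381.Tools
open Cfsg.Agent.H381.Lucido
open Cfsg.Agent.H381.Cover
open Cfsg.Agent.H381.HHB
open Cfsg.Agent.H381.Criterion (commutator_zpowers_le normalizer_le_normalizer_centralizer
  orderOf_prime_pow orderOf_conj exists_unique_of_fpf mem_normalizer_unique)
open Cfsg.Agent.OddOrderLocal.PiCoreOf (piCoreOf_le le_normalizer_piCoreOf)
open Cfsg.Agent.OddOrderLocal.FitCores (isPGroup_piCoreOf core_le_centralizer_core)
open Cfsg.Agent.SignalizersComponents.LocalGlobal (NoFixed)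

universe u v w

/-- hypotheses on the type function -/
structure TyHyp (ty : ℕ → ℕ) : Prop where
  two : ty 2 = 0
  eq_two : ∀ p : ℕ, p.Prime → ty p = 0 → p = 2
  fermat : ∀ p : ℕ, p.Prime → ty p = 1 → ∀ n m : ℕ, 1 ≤ n → 1 ≤ m → p ^ n - 1 ≠ 2 ^ m

/-- hypotheses on the element orders -/
structure WHyp (ty v : ℕ → ℕ) (E : Type u) [Group E] : Prop where
  pi : ∀ g : E, ∀ p : ℕ, p.Prime → p ∣ orderOf g → ty p < 4
  triple : ∀ g : E, ∀ a b c : ℕ, a.Prime → b.Prime → c.Prime → a ∣ orderOf g → b ∣ orderOf g →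
    c ∣ orderOf g → ty a = ty b ∨ ty b = ty c ∨ ty a = ty c
  eight : ∀ g : E, ¬ 8 ∣ orderOf g
  bexp : ∀ g : E, ∀ p : ℕ, p.Prime → ty p = 1 → ¬ p ^ (v p + 1) ∣ orderOf g

/-- weak hypotheses on the simple group -/
structure LHyp0 (ty : ℕ → ℕ) (L : Type w) [Group L] : Prop where
  simple : IsSimpleGroup L
  four : ∃ t : ℕ, t.Prime ∧ t ≠ 2 ∧ t ≠ 3 ∧ ∃ (A : Subgroup L) (w a : L), IsPGroup t A ∧
    w ∈ normalizer (A : Set L) ∧ orderOf w = 4 ∧ a ∈ A ∧ ¬ Commute (w ^ 2) a
  third : ∀ i j : ℕ, ∃ p : ℕ, p.Prime ∧ p ∣ Nat.card L ∧ ty p ≠ i ∧ ty p ≠ j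

/-- hypotheses on the simple group -/
structure LHyp (ty v : ℕ → ℕ) (L : Type w) [Group L] : Prop where
  simple : IsSimpleGroup L
  four : ∃ t : ℕ, t.Prime ∧ t ≠ 2 ∧ t ≠ 3 ∧ ∃ (A : Subgroup L) (w a : L), IsPGroup t A ∧
    w ∈ normalizer (A : Set L) ∧ orderOf w = 4 ∧ a ∈ A ∧ ¬ Commute (w ^ 2) a
  bor : ∀ p : ℕ, p.Prime → ty p = 1 → p ∣ Nat.card L → 1 ≤ v p ∧ ∃ (A : Subgroup L) (w a : L),
    IsPGroup 2 A ∧ w ∈ normalizer (A : Set L) ∧ orderOf w = p ^ v p ∧ a ∈ A ∧
    ¬ Commute (w ^ (p ^ (v p - 1))) a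
  rep : ∀ i : ℕ, i < 4 → ∃ p : ℕ, p.Prime ∧ ty p = i ∧ p ∣ Nat.card L

theorem LHyp.to0 {ty v : ℕ → ℕ} {L : Type w} [Group L] (hL : LHyp ty v L) : LHyp0 ty L where
  simple := hL.simple
  four := hL.four
  third i j := by
    have h : ∃ k : ℕ, k < 4 ∧ k ≠ i ∧ k ≠ j := by
      by_cases h0 : 0 ≠ i ∧ 0 ≠ j
      · exact ⟨0, by norm_num, h0⟩
      by_cases h1 : 1 ≠ i ∧ 1 ≠ j
      · exact ⟨1, by norm_num, h1⟩
      · exact ⟨2, by norm_num, by omega, by omega⟩
    obtain ⟨k, hk, h1, h2⟩ := h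
    obtain ⟨p, hp, hpk, hpL⟩ := hL.rep k hk
    exact ⟨p, hp, hpL, by rw [hpk]; exact h1, by rw [hpk]; exact h2⟩

variable {ty v : ℕ → ℕ} {E : Type u} [Group E] [Finite E] {T : Type v} [Group T] {L : Type w}
  [Group L]

theorem central_aux {f : E →* T} {ι : L →* T} [IsSimpleGroup L]
    (hS : Group.IsSolvable f.ker)
    {p t n : ℕ} (hp : p.Prime) (ht : t.Prime) (htp : t ≠ p) (hn : 1 ≤ n)
    (hexp : ∀ g : E, ∀ m : ℕ, orderOf g = p ^ m → m ≤ n)
    (hex : ∀ n₀ m : ℕ, 1 ≤ n₀ → n₀ ≤ n → 1 ≤ m → p ^ n₀ - 1 ≠ t ^ m) {A : Subgroup L} {w a : L}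
    (hA : IsPGroup t A) (hw : w ∈ normalizer (A : Set L)) (hwn : orderOf w = p ^ n) (ha : a ∈ A)
    (hwa : ¬ Commute (w ^ (p ^ (n - 1))) a) {M P : Subgroup E} (hM : Cov f ι M)
    (hMP : M ≤ normalizer (P : Set E)) (hP : IsPGroup p P) :
    Cov f ι (M ⊓ centralizer (P : Set E)) := by
  have hpf : Fact p.Prime := ⟨hp⟩
  obtain ⟨Y, hYM, g, hg, hYt, hYA, hgY, hgw, m, hm⟩ := hM.lift_pair hS ht hp hA hw
    (k := n) (by rw [hwn])
  have hgn : g ^ (p ^ n) = 1 := by
    apply orderOf_dvd_iff_pow_eq_one.mp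
    rw [hm]
    exact pow_dvd_pow p (hexp g m hm)
  have hord : ∀ x ∈ P, (x * g) ^ (p ^ n) = 1 := by
    intro x hx
    have h1 : IsPGroup p (zpowers g) := IsPGroup.of_card (n := m) (by rw [Nat.card_zpowers, hm])
    have h2 : IsPGroup p (P ⊔ zpowers g : Subgroup E) :=
      IsPGroup.to_sup_of_normal_left' hP h1 (by rw [zpowers_le]; exact hMP hg)
    obtain ⟨l, hl⟩ := orderOf_prime_pow hp h2 (x := x * g)
      (mul_mem (le_sup_left (a := P) hx) (le_sup_right (a := P) (mem_zpowers g)))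
    apply orderOf_dvd_iff_pow_eq_one.mp
    rw [hl]
    exact pow_dvd_pow p (hexp _ l hl)
  have h1 := hhb hp ht htp hn hex hP hYt hgn hgY (hMP hg) (hYM.trans hMP) hord
  exact hM.centralizer_of_commutator hMP hYM hYA (pow_mem hg _) (w := w ^ (p ^ (n - 1)))
    (by rw [map_pow, map_pow, hgw]) ha hwa h1

/-- a normalised `2`-group is centralised by a covering subgroup -/
theorem two_central (W : WHyp ty v E) (hL : LHyp0 ty L) {f : E →* T} {ι : L →* T}
    (hS : Group.IsSolvable f.ker) {M P : Subgroup E} (hM : Cov f ι M)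
    (hMP : M ≤ normalizer (P : Set E)) (hP : IsPGroup 2 P) :
    Cov f ι (M ⊓ centralizer (P : Set E)) := by
  have := hL.simple
  obtain ⟨t, ht, ht2, ht3, A, w, a, hA, hw, hw4, ha, hwa⟩ := hL.four
  refine central_aux hS Nat.prime_two ht ht2 (n := 2) (by norm_num) ?_ ?_ hA hw
    (by rw [hw4]; norm_num) ha (by simpa using hwa) hM hMP hP
  · intro g m hm
    by_contra hlt
    push Not at hlt
    apply W.eight g
    rw [hm]
    exact pow_dvd_pow 2 (m := 3) (by omega)
  · intro n₀ m h1 h2 h3 h4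
    have h5 : n₀ = 1 ∨ n₀ = 2 := by omega
    rcases h5 with rfl | rfl
    · have := Nat.one_lt_pow (by omega : m ≠ 0) ht.one_lt
      omega
    · have h6 : t ∣ 3 := by
        have : (3 : ℕ) = t ^ m := by omega
        rw [this]
        exact dvd_pow_self t (by omega)
      exact ht3 ((Nat.prime_dvd_prime_iff_eq ht Nat.prime_three).mp h6)

/-- a normalised `p`-group, `p` of type `1`, is centralised by a covering subgroup -/
theorem b_central (hty : TyHyp ty) (W : WHyp ty v E) (hL : LHyp ty v L) {f : E →* T} {ι : L →* T}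
    (hS : Group.IsSolvable f.ker) {p : ℕ} (hp : p.Prime)
    (hp1 : ty p = 1) (hpL : p ∣ Nat.card L) {M P : Subgroup E} (hM : Cov f ι M)
    (hMP : M ≤ normalizer (P : Set E)) (hP : IsPGroup p P) :
    Cov f ι (M ⊓ centralizer (P : Set E)) := by
  have := hL.simple
  obtain ⟨hv, A, w, a, hA, hw, hwp, ha, hwa⟩ := hL.bor p hp hp1 hpL
  have hp2 : 2 ≠ p := by
    rintro rfl
    rw [hty.two] at hp1
    omega
  refine central_aux hS hp Nat.prime_two hp2 hv ?_ ?_ hA hw hwp ha hwa hM hMP hP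
  · intro g m hm
    by_contra hlt
    push Not at hlt
    apply W.bexp g p hp hp1
    rw [hm]
    exact pow_dvd_pow p (by omega)
  · intro n₀ m h1 _ h3
    exact hty.fermat p hp hp1 n₀ m h1 h3

/-- a covering subgroup contains an involution with nontrivial image in `L` -/
theorem exists_involution (W : WHyp ty v E) (hL : LHyp0 ty L) {f : E →* T} {ι : L →* T}
    (hι : Function.Injective ι) {M : Subgroup E} (hM : Cov f ι M) :
    ∃ i ∈ M, orderOf i = 2 ∧ ∃ x : L, x ≠ 1 ∧ f i = ι x := by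
  obtain ⟨t, ht, ht2, ht3, A, w, a, hA, hw, hw4, ha, hwa⟩ := hL.four
  obtain ⟨g, hg, hgw, m, hm⟩ := hM.lift_elem Nat.prime_two (x := w) (k := 2) (by rw [hw4]; norm_num)
  have hm2 : m ≤ 2 := by
    by_contra hlt
    push Not at hlt
    apply W.eight g
    rw [hm]
    exact pow_dvd_pow 2 (m := 3) (by omega)
  have hw2 : w ^ 2 ≠ 1 := by
    intro h
    apply hwa
    rw [h]
    exact Commute.one_left a
  have hgf : f (g ^ 2) = ι (w ^ 2) := by rw [map_pow, map_pow, hgw]
  refine ⟨g ^ 2, pow_mem hg 2, ?_, w ^ 2, hw2, hgf⟩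
  have h2f : Fact (Nat.Prime 2) := ⟨Nat.prime_two⟩
  apply orderOf_eq_prime
  · rw [← pow_mul]
    apply orderOf_dvd_iff_pow_eq_one.mp
    rw [hm]
    exact pow_dvd_pow 2 hm2
  · intro h
    rw [h, map_one] at hgf
    exact hw2 (hι (by rw [← hgf, map_one]))

theorem inverts_of_fpf {R : Subgroup E} {j : E} (hj : j ∈ normalizer (R : Set E)) (hjj : j * j = 1)
    (hfix : R ⊓ centralizer {j} = ⊥) : ∀ r ∈ R, j * r * j⁻¹ = r⁻¹ := by
  let φ : R →* R := (R.normalizerMonoidHom ⟨j, hj⟩ : MulAut R).toMonoidHom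
  have hφ : ∀ r : R, ((φ r : R) : E) = j * r * j⁻¹ := fun r => rfl
  have h1 : MonoidHom.FixedPointFree φ := by
    intro r hr
    have h2 := congrArg Subtype.val hr
    rw [hφ] at h2
    have h3 : (r : E) ∈ R ⊓ centralizer {j} := by
      rw [mem_fix]
      refine ⟨r.2, ?_⟩
      rw [mul_inv_eq_iff_eq_mul] at h2
      exact h2
    rw [hfix, mem_bot] at h3
    exact Subtype.ext h3
  have h2 : Function.Involutive φ := by
    intro r
    apply Subtype.ext
    rw [hφ, hφ]
    have hj' : j⁻¹ * j⁻¹ = 1 := by rw [← mul_inv_rev, hjj, inv_one]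
    calc j * (j * r * j⁻¹) * j⁻¹ = (j * j) * r * (j⁻¹ * j⁻¹) := by group
      _ = r := by rw [hjj, hj', one_mul, mul_one]
  have h3 := h1.coe_eq_inv_of_involutive h2
  intro r hr
  have h4 := congrArg Subtype.val (congrFun h3 ⟨r, hr⟩)
  rw [hφ] at h4
  exact h4

theorem LHyp0.exists_not_commute (hL : LHyp0 ty L) {x : L} (hx : x ≠ 1) : ∃ y : L, ¬ Commute x y := by
  have := hL.simple
  obtain ⟨t, ht, ht2, ht3, A, w, a, hA, hw, hw4, ha, hwa⟩ := hL.four
  rcases (inferInstance : (center L).Normal).eq_bot_or_eq_top with h1 | h1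
  · by_contra hcon
    push Not at hcon
    have h2 : x ∈ center L := mem_center_iff.mpr fun g => (hcon g).symm
    rw [h1, mem_bot] at h2
    exact hx h2
  · exfalso
    have h2 : w ^ 2 ∈ center L := by rw [h1]; exact mem_top _
    exact hwa (mem_center_iff.mp h2 a).symm

/-- an involution without fixed points on the odd order group `R` inverts `R`; so if `M` does not
cover `L` inside `C(R)`, then all involutions of `M` over `L` have fixed points on `R` -/
theorem fix_involution (hL : LHyp0 ty L) {f : E →* T} {ι : L →* T} {M R : Subgroup E}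
    (hM : Cov f ι M) (hMR : M ≤ normalizer (R : Set E))
    (hnc : ¬ Cov f ι (M ⊓ centralizer (R : Set E))) (hι : Function.Injective ι) {i : E} (hi : i ∈ M)
    (hi2 : orderOf i = 2) {x : L} (hx : x ≠ 1) (hix : f i = ι x) : R ⊓ centralizer {i} ≠ ⊥ := by
  intro hfix
  have := hL.simple
  have hii : i * i = 1 := by rw [← pow_two, ← hi2]; exact pow_orderOf_eq_one i
  have hinv := inverts_of_fpf (hMR hi) hii hfix
  obtain ⟨y, hy⟩ := hL.exists_not_commute hx
  obtain ⟨m, hm, hmy⟩ := hM.exists_lift y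
  have hg : i * (m * i * m⁻¹) ∈ M ⊓ centralizer (R : Set E) := by
    refine mem_inf.mpr ⟨mul_mem hi (mul_mem (mul_mem hm hi) (inv_mem hm)), ?_⟩
    rw [mem_centralizer_iff]
    intro r hr
    have h1 : m⁻¹ * r * m ∈ R := by
      have := (mem_normalizer_iff.mp (inv_mem (hMR hm)) r).mp hr
      rwa [inv_inv] at this
    have h2 := hinv _ h1
    have h3 : i⁻¹ = i := inv_eq_of_mul_eq_one_left hii
    -- `m i m⁻¹` inverts `r⁻¹`
    have h4 : (m * i * m⁻¹) * r * (m * i * m⁻¹)⁻¹ = r⁻¹ := by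
      calc (m * i * m⁻¹) * r * (m * i * m⁻¹)⁻¹ = m * (i * (m⁻¹ * r * m) * i⁻¹) * m⁻¹ := by group
        _ = m * (m⁻¹ * r * m)⁻¹ * m⁻¹ := by rw [h2]
        _ = r⁻¹ := by group
    have h5 : (i * (m * i * m⁻¹)) * r * (i * (m * i * m⁻¹))⁻¹ = r := by
      calc (i * (m * i * m⁻¹)) * r * (i * (m * i * m⁻¹))⁻¹
          = i * ((m * i * m⁻¹) * r * (m * i * m⁻¹)⁻¹) * i⁻¹ := by group
        _ = i * r⁻¹ * i⁻¹ := by rw [h4]
        _ = r := by rw [hinv _ (inv_mem hr), inv_inv]
    rw [mul_inv_eq_iff_eq_mul] at h5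
    exact h5.symm
  apply hnc
  refine hM.of_ne_one (normalizer_inf_centralizer hMR) hg (x := x * (y * x * y⁻¹)) ?_ ?_
  · intro h
    have hxx : x * x = 1 := by
      apply hι
      rw [map_mul, ← hix, ← map_mul, hii, map_one, map_one]
    apply hy
    have h2 : y * x * y⁻¹ = x := by
      have h3 : x⁻¹ = x := inv_eq_of_mul_eq_one_left hxx
      calc y * x * y⁻¹ = x⁻¹ * (x * (y * x * y⁻¹)) := by group
        _ = x⁻¹ := by rw [h, mul_one]
        _ = x := h3
    rw [mul_inv_eq_iff_eq_mul] at h2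
    exact h2.symm
  · rw [map_mul, map_mul, map_mul, map_mul, map_mul, map_mul, map_inv, map_inv, hix, hmy]

/-- fixed points of elements of type `1` -/
theorem fix_b (hty : TyHyp ty) (W : WHyp ty v E) (hL : LHyp ty v L) {f : E →* T} {ι : L →* T}
    (hι : Function.Injective ι) (hS : Group.IsSolvable f.ker) {p r : ℕ} (hp : p.Prime)
    (hp1 : ty p = 1) (hpL : p ∣ Nat.card L) (hr : r.Prime) (hr2 : r ≠ 2) (hrp : r ≠ p)
    {M R : Subgroup E} (hM : Cov f ι M) (hMR : M ≤ normalizer (R : Set E)) (hR : IsPGroup r R)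
    (hnc : ¬ Cov f ι (M ⊓ centralizer (R : Set E))) :
    ∃ y ∈ M, orderOf y = p ∧ R ⊓ centralizer {y} ≠ ⊥ := by
  have := hL.simple
  obtain ⟨hv, A, w, a, hA, hw, hwp, ha, hwa⟩ := hL.bor p hp hp1 hpL
  obtain ⟨Y, hYM, g, hg, hY2, hYA, hgY, hgw, m, hm⟩ := hM.lift_pair hS Nat.prime_two hp hA hw
    (k := v p) (by rw [hwp])
  have hm1 : m ≤ v p := by
    by_contra hlt
    push Not at hlt
    apply W.bexp g p hp hp1
    rw [hm]
    exact pow_dvd_pow p (by omega)
  have hw1 : w ^ (p ^ (v p - 1)) ≠ 1 := by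
    intro h
    apply hwa
    rw [h]
    exact Commute.one_left a
  have hgf : f (g ^ (p ^ (v p - 1))) = ι (w ^ (p ^ (v p - 1))) := by rw [map_pow, map_pow, hgw]
  have hpf : Fact p.Prime := ⟨hp⟩
  have ho : orderOf (g ^ (p ^ (v p - 1))) = p := by
    apply orderOf_eq_prime
    · rw [← pow_mul]
      apply orderOf_dvd_iff_pow_eq_one.mp
      rw [hm, ← pow_succ]
      exact pow_dvd_pow p (by omega)
    · intro h
      rw [h, map_one] at hgf
      exact hw1 (hι (by rw [← hgf, map_one]))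
  refine ⟨g ^ (p ^ (v p - 1)), pow_mem hg _, ho, ?_⟩
  intro hfix
  apply hnc
  have hNF : NoFixed.{u} p {2} := by
    apply Cfsg.Agent.SignalizersComponents.NoFixedGen.noFixed hp
    intro _ m hm
    have := hty.fermat p hp hp1 1 m le_rfl (Nat.one_le_iff_ne_zero.mpr hm)
    rw [pow_one] at this
    have := hp.two_le
    omega
  have hp2 : p ≠ 2 := by
    rintro rfl
    rw [hty.two] at hp1
    omega
  have h1 := tool hp Nat.prime_two hr hp2 hr2 hrp hNF hR hY2 ho (hMR (pow_mem hg _))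
    (pow_mem hgY _) (hYM.trans hMR) hfix
  exact hM.centralizer_of_commutator hMR hYM hYA (pow_mem hg _) hgf ha hwa h1

/-- orders of products of commuting elements of different prime orders -/
theorem WHyp.no3 (W : WHyp ty v E) {a b c : ℕ} (ha : a.Prime) (hb : b.Prime) (hc : c.Prime)
    (hab : ty a ≠ ty b) (hbc : ty b ≠ ty c) (hac : ty a ≠ ty c) {x y z : E} (hx : orderOf x = a)
    (hy : orderOf y = b) (hz : orderOf z = c) (hxy : Commute x y) (hxz : Commute x z)
    (hyz : Commute y z) : False := by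
  have cop : ∀ {m n : ℕ}, m.Prime → n.Prime → ty m ≠ ty n → m.Coprime n := fun hm hn h =>
    (Nat.coprime_primes hm hn).mpr (fun e => h (by rw [e]))
  have h1 := orderOf_mul3 hxy hxz hyz hx hy hz (cop ha hb hab) (cop ha hc hac) (cop hb hc hbc)
  rcases W.triple (x * y * z) a b c ha hb hc (by rw [h1, mul_assoc]; exact dvd_mul_right _ _)
    (by rw [h1]; exact (dvd_mul_left b a).mul_right c) (by rw [h1]; exact dvd_mul_left _ _) with
    h | h | h
  exacts [hab h, hbc h, hac h]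

/-- two commuting elements of different types cannot both commute with a covering subgroup -/
theorem WHyp.not_cov (W : WHyp ty v E) (hL : LHyp0 ty L) {f : E →* T} {ι : L →* T}
    (hι : Function.Injective ι) {a b : ℕ} (ha : a.Prime) (hb : b.Prime) (hab : ty a ≠ ty b) {x y : E}
    (hx : orderOf x = a) (hy : orderOf y = b) (hxy : Commute x y) {M : Subgroup E}
    (hMx : M ≤ centralizer {x}) (hMy : M ≤ centralizer {y}) : ¬ Cov f ι M := by
  intro hM
  obtain ⟨c, hc, hcL, h1, h2⟩ := hL.third (ty a) (ty b)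
  obtain ⟨z, hz, hzc⟩ := exists_mem_of_dvd hc (hM.prime_dvd hι hcL)
  exact W.no3 ha hb hc hab h2.symm h1.symm hx hy hzc hxy (mem_cent_iff.mp (hMx hz))
    (mem_cent_iff.mp (hMy hz))

/-- **Central elements**: if `C(z)` covers `L`, `z` of prime order `p`, then the centraliser of `z` in
the kernel involves only primes of the type of `p`. -/
theorem isolated (hty : TyHyp ty) (W : WHyp ty v E) (hL : LHyp ty v L)
    (hbL : ∀ p : ℕ, p.Prime → ty p = 1 → p ∣ Nat.card E → p ∣ Nat.card L) {f : E →* T} {ι : L →* T}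
    (hι : Function.Injective ι) (hS : Group.IsSolvable f.ker) {p r : ℕ} (hp : p.Prime)
    (hr : r.Prime) {z : E} (hz : orderOf z = p) (hcov : Cov f ι (centralizer {z}))
    (hrd : r ∣ Nat.card (centralizer {z} ⊓ f.ker : Subgroup E)) : ty r = ty p := by
  by_contra hne
  set N : Subgroup E := centralizer {z} ⊓ f.ker with hN
  have hNs : Group.IsSolvable N :=
    Group.isSolvable_of_isSolvable_injective (f := Subgroup.inclusion (inf_le_right : N ≤ f.ker))
      (Subgroup.inclusion_injective _)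
  have hnorm : centralizer {z} ≤ normalizer (N : Set E) := by
    apply Cfsg.Agent.H381.Criterion.le_normalizer_inf le_normalizer
    rw [normalizer_eq_top]; exact le_top
  obtain ⟨R, hR⟩ := Cfsg.Agent.OddOrderLocal.HallPi.exists_isPiHallOf hNs ({r} : Set ℕ)
  have hRr : IsPGroup r R := (Cfsg.Agent.OddOrderLocal.PiCoreOf.isPi_singleton_iff hr R).mp hR.2.1
  have hRN : R ≤ N := hR.1
  set M : Subgroup E := centralizer {z} ⊓ normalizer (R : Set E) with hM
  have hMcov : Cov f ι M := hcov.frattini hNs inf_le_left hnorm inf_le_right hR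
  have hMR : M ≤ normalizer (R : Set E) := inf_le_right
  have hMz : M ≤ centralizer {z} := inf_le_left
  obtain ⟨y, hy, hyr⟩ := exists_mem_of_dvd hr
    (Cfsg.Agent.OddOrderLocal.HallPi.prime_dvd_card hR hr (Set.mem_singleton r) hrd)
  have hzy : Commute z y := mem_cent_iff.mp (mem_inf.mp (hRN hy)).1
  have hnc : ¬ Cov f ι (M ⊓ centralizer (R : Set E)) := by
    apply W.not_cov hL.to0 hι hp hr (Ne.symm hne) hz hyr hzy (inf_le_left.trans hMz)
    exact inf_le_right.trans (centralizer_le (by simpa using hy))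
  have hr2 : r ≠ 2 := by
    rintro rfl
    exact hnc (two_central W hL.to0 hS hMcov hMR hRr)
  have hr1 : ty r ≠ 1 := by
    intro h1
    have hrE : r ∣ Nat.card E := hrd.trans (Subgroup.card_subgroup_dvd_card N)
    exact hnc (b_central hty W hL hS hr h1 (hbL r hr h1 hrE) hMcov hMR hRr)
  have hr0 : ty r ≠ 0 := fun h => hr2 (hty.eq_two r hr h)
  by_cases hp0 : ty p = 0
  · -- `p = 2`: use an element of type `1`
    obtain ⟨c, hc, hc1, hcL⟩ := hL.rep 1 (by norm_num)
    obtain ⟨x, hx, hxc, hxR⟩ := fix_b hty W hL hι hS hc hc1 hcL hr hr2 (by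
      rintro rfl; exact hr1 hc1) hMcov hMR hRr hnc
    obtain ⟨y', hy', hyr'⟩ := exists_mem_of_ne_bot hr (hRr.to_le inf_le_left) hxR
    rw [mem_fix] at hy'
    exact W.no3 hp hr hc (by rw [hp0]; exact hr0.symm) (by rw [hc1]; exact hr1) (by rw [hp0, hc1]; norm_num)
      hz hyr' hxc (mem_cent_iff.mp (mem_inf.mp (hRN hy'.1)).1) (mem_cent_iff.mp (hMz hx)) hy'.2.symm
  · -- `p ≠ 2`: use an involution
    obtain ⟨i, hi, hi2, x, hx, hix⟩ := exists_involution W hL.to0 hι hMcov
    have hiR := fix_involution hL.to0 hMcov hMR hnc hι hi hi2 hx hix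
    obtain ⟨y', hy', hyr'⟩ := exists_mem_of_ne_bot hr (hRr.to_le inf_le_left) hiR
    rw [mem_fix] at hy'
    exact W.no3 hp hr Nat.prime_two (Ne.symm hne) (by rw [hty.two]; exact hr0)
      (by rw [hty.two]; exact hp0) hz hyr' hi2 (mem_cent_iff.mp (mem_inf.mp (hRN hy'.1)).1)
      (mem_cent_iff.mp (hMz hi)) hy'.2.symm

end Cfsg.Agent.H381.SzCore
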