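import Cfsg.Agent.H381.SzGen
import Cfsg.Agent.Solvable.UniqueOrderP
import Cfsg.Agent.Lib.CoprimeHyperplane

/-!
# Elementary abelian groups of order 8 acting on `b`-groups with cyclic fixed points
-/

set_option autoImplicit false
set_option linter.unusedSectionVars false

namespace Cfsg.Agent.H381.SzEight

open Subgroup
open scoped commutatorElement
open Cfsg (piCoreOf fittingOf IsPiHallOf)
open Cfsg.Agent.H381.Tools
open Cfsg.Agent.H381.Lucido
open Cfsg.Agent.H381.Cover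
open Cfsg.Agent.H381.SzCore
open Cfsg.Agent.H381.SzOne
open Cfsg.Agent.H381.SzGen
open Cfsg.Agent.H381.Criterion (commutator_zpowers_le normalizer_le_normalizer_centralizer
  orderOf_prime_pow orderOf_conj exists_unique_of_fpf mem_normalizer_unique mem_centralizer_bot
  le_normalizer_inf)
open Cfsg.Agent.OddOrderLocal.PiCoreOf (piCoreOf_le le_normalizer_piCoreOf)
open Cfsg.Agent.OddOrderLocal.FitCores (isPGroup_piCoreOf core_le_centralizer_core)

universe u v w

variable {ty v : ℕ → ℕ} {E : Type u} [Group E] [Finite E] {T : Type v} [Group T] {L : Type w}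
  [Group L]

/-- two hyperplanes of a group of order 8 meet -/
theorem exists_common {Y B B' : Subgroup E} (hY : Nat.card Y = 8) (hB : B ≤ Y)
    (hBi : B.relIndex Y = 2) (hBi' : B'.relIndex Y = 2) : ∃ e ∈ B, e ∈ B' ∧ e ≠ 1 := by
  have h1 : (B ⊓ B').relIndex Y ≤ 4 := by
    have := Subgroup.relIndex_inf_le (H := B) (K := B') (L := Y)
    rw [hBi, hBi'] at this
    exact this
  have h2 : Nat.card (B ⊓ B' : Subgroup E) * (B ⊓ B').relIndex Y = 8 := by
    have := Subgroup.relIndex_mul_relIndex ⊥ (B ⊓ B') Y bot_le (inf_le_left.trans hB)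
    rwa [Subgroup.relIndex_bot_left, Subgroup.relIndex_bot_left, hY] at this
  have h4 : B ⊓ B' ≠ ⊥ := by
    intro h
    rw [h, card_bot, one_mul] at h2
    rw [h] at h1
    omega
  by_contra hcon
  push Not at hcon
  apply h4
  rw [eq_bot_iff]
  intro e he
  exact mem_bot.mpr (hcon e (mem_inf.mp he).1 (mem_inf.mp he).2)

theorem uniq_of_el8 {b : ℕ} (hb : b.Prime) (hb2 : b ≠ 2) {P Y : Subgroup E} (hP : IsPGroup b P)
    (hP1 : P ≠ ⊥) (hY : Nat.card Y = 8) (hYY : ∀ y ∈ Y, y * y = 1)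
    (hYP : Y ≤ normalizer (P : Set E))
    (h : ∀ e ∈ Y, e ≠ 1 → ∀ x ∈ P ⊓ centralizer {e}, ∀ y ∈ P ⊓ centralizer {e}, orderOf x = b →
      orderOf y = b → y ∈ zpowers x) : Uniq b P := by
  have hbf : Fact b.Prime := ⟨hb⟩
  have h2f : Fact (Nat.Prime 2) := ⟨Nat.prime_two⟩
  have hYel : Cfsg.IsElementaryAbelian 2 Y := by
    refine ⟨⟨⟨fun x y => ?_⟩⟩, fun a ha => by rw [pow_two]; exact hYY a ha⟩
    apply Subtype.ext
    show (x : E) * y = y * x
    have h1 := hYY _ (mul_mem x.2 y.2)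
    have h2 := inv_eq_of_mul_eq_one_left h1
    have h3 := inv_eq_of_mul_eq_one_left (hYY _ x.2)
    have h4 := inv_eq_of_mul_eq_one_left (hYY _ y.2)
    rw [mul_inv_rev, h3, h4] at h2
    exact h2.symm
  have hY1 : Y ≠ ⊥ := by rintro rfl; rw [card_bot] at hY; omega
  -- fixed points of involutions are cyclic
  have hcyc : ∀ e ∈ Y, e ≠ 1 → IsCyclic (P ⊓ centralizer {e} : Subgroup E) := by
    intro e he he1
    apply Cfsg.Agent.Solvable.UniqueOrderP.isCyclic_of_uniqueP hb2 (hP.to_le inf_le_left)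
    intro x y hx hxb hyb
    by_cases hy : y = 1
    · rw [hy]; exact one_mem _
    have h1 : orderOf x = b := orderOf_eq_prime hxb hx
    have h2 : orderOf y = b := orderOf_eq_prime hyb hy
    obtain ⟨n, hn⟩ := mem_zpowers_iff.mp (h e he he1 x x.2 y y.2 (by rw [Subgroup.orderOf_coe, h1])
      (by rw [Subgroup.orderOf_coe, h2]))
    exact mem_zpowers_iff.mpr ⟨n, Subtype.ext hn⟩
  have hle : ∀ (B : Subgroup E) (e : E) (Q : Subgroup E), e ∈ B →
      Q ⊓ centralizer (B : Set E) ≤ Q ⊓ centralizer {e} := by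
    intro B e Q he
    exact inf_le_inf_left _ (centralizer_le (by simpa using he))
  have hcop : ∀ Q : Subgroup E, Q ≤ P → (Nat.card Q).Coprime 2 := by
    intro Q hQ
    exact (coprime_pow_card hb (hP.to_le hQ) (n := 2) (by
      intro hd
      exact hb2 ((Nat.prime_dvd_prime_iff_eq hb Nat.prime_two).mp hd)))
  have gen : ∀ Q : Subgroup E, Q ≤ P → Y ≤ normalizer (Q : Set E) →
      Q = ⨆ B : {B : Subgroup E // B ≤ Y ∧ B.relIndex Y = 2}, Q ⊓ centralizer ((B : Subgroup E) : Set E) :=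
    fun Q hQ hQn => Cfsg.Agent.Lib.CoprimeHyperplane.le_iSup_hyperplane Y Q hYel hY1 (hcop Q hQ) hQn
  -- `P` is abelian
  have hab : ∀ x ∈ P, ∀ y ∈ P, Commute x y := by
    have step : ∀ x ∈ P, (∃ B : Subgroup E, (B ≤ Y ∧ B.relIndex Y = 2) ∧ x ∈ centralizer (B : Set E)) →
        P ≤ centralizer {x} := by
      rintro x hx ⟨B, hB, hxB⟩
      rw [gen P le_rfl hYP]
      apply iSup_le
      rintro ⟨B', hB'⟩ y hy
      obtain ⟨e, he, he', he1⟩ := exists_common hY hB.1 hB.2 hB'.2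
      have hc := hcyc e (hB.1 he) he1
      let _ : CommGroup (P ⊓ centralizer {e} : Subgroup E) := IsCyclic.commGroup
      have hx' := hle B e P he (mem_inf.mpr ⟨hx, hxB⟩)
      have hy' := hle B' e P he' hy
      have h5 := mul_comm (⟨x, hx'⟩ : (P ⊓ centralizer {e} : Subgroup E)) ⟨y, hy'⟩
      exact mem_cent_iff.mpr (congrArg Subtype.val h5)
    have h6 : ∀ y ∈ P, P ≤ centralizer {y} := by
      intro y hy
      rw [gen P le_rfl hYP]
      apply iSup_le
      rintro ⟨B', hB'⟩ x hx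
      have h7 := step x (mem_inf.mp hx).1 ⟨B', hB', (mem_inf.mp hx).2⟩ hy
      exact mem_cent_iff.mpr (mem_cent_iff.mp h7).symm
    intro x hx y hy
    exact mem_cent_iff.mp (h6 x hx hy)
  -- the elements of order dividing `b`
  let Ω : Subgroup E :=
    { carrier := {x | x ∈ P ∧ x ^ b = 1}
      one_mem' := ⟨one_mem _, one_pow b⟩
      mul_mem' := by
        rintro x y ⟨hx, hxb⟩ ⟨hy, hyb⟩
        exact ⟨mul_mem hx hy, by rw [(hab x hx y hy).mul_pow, hxb, hyb, one_mul]⟩
      inv_mem' := by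
        rintro x ⟨hx, hxb⟩
        exact ⟨inv_mem hx, by rw [inv_pow, hxb, inv_one]⟩ }
  have hΩ : ∀ x, x ∈ Ω ↔ x ∈ P ∧ x ^ b = 1 := fun x => Iff.rfl
  have hΩP : Ω ≤ P := fun x hx => hx.1
  have hΩn : Y ≤ normalizer (Ω : Set E) := by
    intro y hy
    rw [mem_normalizer_iff]
    intro x
    rw [hΩ, hΩ, ← mem_normalizer_iff.mp (hYP hy) x, conj_pow]
    constructor
    · rintro ⟨h1, h2⟩
      exact ⟨h1, by rw [h2, mul_one, mul_inv_cancel]⟩
    · rintro ⟨h1, h2⟩
      refine ⟨h1, ?_⟩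
      rw [mul_inv_eq_one] at h2
      exact mul_eq_left.mp h2
  have hord : ∀ x ∈ Ω, x ≠ 1 → orderOf x = b := fun x hx hx1 => orderOf_eq_prime hx.2 hx1
  have hΩ1 : Ω ≠ ⊥ := by
    obtain ⟨x, hx, hxb⟩ := exists_mem_of_ne_bot hb hP hP1
    intro h1
    have h2 : x ∈ Ω := ⟨hx, by rw [← hxb]; exact pow_orderOf_eq_one x⟩
    rw [h1, mem_bot] at h2
    rw [h2, orderOf_one] at hxb
    exact hb.one_lt.ne hxb
  obtain ⟨B₀, hB₀, x₀, hx₀, hx₀1⟩ : ∃ B : Subgroup E, (B ≤ Y ∧ B.relIndex Y = 2) ∧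
      ∃ x ∈ Ω ⊓ centralizer (B : Set E), x ≠ 1 := by
    by_contra hcon
    push Not at hcon
    apply hΩ1
    rw [gen Ω hΩP hΩn, eq_bot_iff]
    apply iSup_le
    rintro ⟨B, hB⟩ x hx
    exact mem_bot.mpr (hcon B hB x hx)
  have hmain : Ω ≤ zpowers x₀ := by
    rw [gen Ω hΩP hΩn]
    apply iSup_le
    rintro ⟨B, hB⟩ x hx
    by_cases hx1 : x = 1
    · rw [hx1]; exact one_mem _
    obtain ⟨e, he, he', he1⟩ := exists_common hY hB.1 hB.2 hB₀.2
    have h8 := hle B e Ω he hx
    have h9 := hle B₀ e Ω he' hx₀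
    exact h e (hB.1 he) he1 x₀ (mem_inf.mpr ⟨hΩP (mem_inf.mp h9).1, (mem_inf.mp h9).2⟩) x
      (mem_inf.mpr ⟨hΩP (mem_inf.mp h8).1, (mem_inf.mp h8).2⟩) (hord _ (mem_inf.mp h9).1 hx₀1)
      (hord _ (mem_inf.mp h8).1 hx1)
  refine ⟨x₀, hΩP (mem_inf.mp hx₀).1, hord _ (mem_inf.mp hx₀).1 hx₀1, ?_⟩
  intro y hy hyb
  exact hmain ⟨hy, by rw [← hyb]; exact pow_orderOf_eq_one y⟩

section edges

variable {f : E →* T} {ι : L →* T}

/-- lifting the elementary abelian subgroup of order `8` when the kernel is odd -/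
theorem exists_lift_el8 (hL : KHyp ty L) (hι : Function.Injective ι) (hS : Group.IsSolvable f.ker)
    (h2 : ¬ 2 ∣ Nat.card f.ker) {M : Subgroup E} (hM : Cov f ι M) :
    ∃ Y ≤ M, Nat.card Y = 8 ∧ (∀ y ∈ Y, y * y = 1) ∧
      ∀ e ∈ Y, e ≠ 1 → orderOf e = 2 ∧ ∃ x : L, x ≠ 1 ∧ f e = ι x := by
  have h2f : Fact (Nat.Prime 2) := ⟨Nat.prime_two⟩
  obtain ⟨A, hA, hAA⟩ := hL.el8
  have hAp : IsPGroup 2 A := IsPGroup.of_card (n := 3) (by rw [hA]; norm_num)
  obtain ⟨Y, hYM, g, hg, hY2, hYA, -⟩ := hM.lift_pair hS Nat.prime_two Nat.prime_two hAp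
    (w := 1) (one_mem _) (k := 0) (by simp)
  have hker : ∀ y ∈ Y, f y = 1 → y = 1 := by
    intro y hy hfy
    obtain ⟨k, hk⟩ := orderOf_prime_pow Nat.prime_two hY2 hy
    have h3 : orderOf y ∣ Nat.card f.ker := Subgroup.orderOf_dvd_natCard _ hfy
    have h4 : (2 ^ k).Coprime (Nat.card f.ker) :=
      Nat.Coprime.pow_left k ((Nat.prime_two.coprime_iff_not_dvd).mpr h2)
    have h5 := Nat.eq_one_of_dvd_coprimes h4 (hk ▸ dvd_rfl) h3
    rwa [orderOf_eq_one_iff] at h5
  have him : ∀ y ∈ Y, ∃ x ∈ A, f y = ι x := by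
    intro y hy
    have : f y ∈ A.map ι := by rw [← hYA]; exact ⟨y, hy, rfl⟩
    obtain ⟨x, hx, hxy⟩ := this
    exact ⟨x, hx, hxy.symm⟩
  have hYY : ∀ y ∈ Y, y * y = 1 := by
    intro y hy
    obtain ⟨x, hx, hxy⟩ := him y hy
    apply hker _ (mul_mem hy hy)
    rw [map_mul, hxy, ← map_mul, hAA x hx, map_one]
  refine ⟨Y, hYM, ?_, hYY, ?_⟩
  · have h6 : Function.Bijective (f.subgroupMap Y) := by
      refine ⟨?_, f.subgroupMap_surjective Y⟩
      rw [injective_iff_map_eq_one]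
      intro y hy
      exact Subtype.ext (hker y y.2 (congrArg Subtype.val hy))
    rw [Nat.card_congr (Equiv.ofBijective _ h6), hYA, Subgroup.card_map_of_injective hι, hA]
  · intro e he he1
    refine ⟨orderOf_eq_prime (by rw [pow_two]; exact hYY e he) he1, ?_⟩
    obtain ⟨x, hx, hxe⟩ := him e he
    refine ⟨x, ?_, hxe⟩
    rintro rfl
    exact he1 (hker e he (by rw [hxe, map_one]))

theorem no_odd_edge_aux (hty : TyHyp ty) (W : WHyp ty v E) (hL : KHyp ty L)
    (hι : Function.Injective ι) (hS : Group.IsSolvable f.ker) (hE : Cov f ι ⊤)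
    (h2 : ¬ 2 ∣ Nat.card f.ker) {a b : ℕ} (ha : a.Prime) (hb : b.Prime) (hab : ty a ≠ ty b)
    (ha0 : ty a ≠ 0) (hb0 : ty b ≠ 0) {H : Subgroup E} (hH : IsPiHallOf {a, b} H f.ker)
    (hbK : b ∣ Nat.card f.ker) (hcore : piCoreOf {a} H ≠ ⊥) (he : Edge f.ker b a) : False := by
  have hne : a ≠ b := fun h => hab (by rw [h])
  have hHK : H ≤ f.ker := hH.1
  have hHs : Group.IsSolvable H :=
    Group.isSolvable_of_isSolvable_injective (f := Subgroup.inclusion hHK)
      (Subgroup.inclusion_injective _)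
  have hM₀ : Cov f ι (⊤ ⊓ normalizer (H : Set E)) := hE.frattini hS le_top
    (by rw [normalizer_eq_top]) le_rfl hH
  rw [top_inf_eq] at hM₀
  obtain ⟨P, hP, hPb⟩ := exists_hall hHs hb
  have hPH : P ≤ H := hP.1
  have hPHall : IsPiHallOf {b} P f.ker := hall_trans hH (by simp) hP
  have hM : Cov f ι (normalizer (H : Set E) ⊓ normalizer (P : Set E)) :=
    hM₀.frattini hHs le_normalizer le_rfl hHK hP
  set M : Subgroup E := normalizer (H : Set E) ⊓ normalizer (P : Set E) with hMdef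
  set A := piCoreOf {a} H with hA
  have hAa : IsPGroup a A := isPGroup_piCoreOf ha H
  have hAH : A ≤ H := piCoreOf_le _ _
  have hHA : H ≤ normalizer (A : Set E) := le_normalizer_piCoreOf _ _
  have hMA : M ≤ normalizer (A : Set E) := inf_le_left.trans
    (Cfsg.Agent.OddOrderLocal.PiCoreOf.normalizer_le_normalizer_piCoreOf _ _)
  have hP1 : P ≠ ⊥ := by
    rintro rfl
    have := Cfsg.Agent.OddOrderLocal.HallPi.prime_dvd_card hPHall hb (Set.mem_singleton b) hbK
    rw [card_bot, Nat.dvd_one] at this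
    exact hb.one_lt.ne' this
  suffices hu : Uniq b P from
    no_edge_of_uniq hty W hL hι hS hE hb ha hab hb0 hPHall hu he
  by_cases hc : Cov f ι (M ⊓ centralizer (A : Set E))
  · refine exists_unique_of_fpf hb hPb hP1 (not_dvd_card ha hb hne.symm hAa) hcore
      (hPH.trans hHA) ?_
    intro x hx hxb
    by_contra hcon
    obtain ⟨z, hz, hza⟩ := exists_mem_of_ne_bot ha (hAa.to_le inf_le_left) hcon
    rw [mem_fix] at hz
    have hcz : Cov f ι (centralizer {z}) :=
      hc.mono (inf_le_right.trans (centralizer_le (by simpa using hz.1)))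
    exact hab (isolated_gen hty W hL hι hS ha hb hza hcz
      (dvd_card_of_mem (mem_inf.mpr ⟨mem_cent_iff.mpr hz.2.symm, hHK (hPH hx)⟩) hxb)
      (fun h => absurd h ha0)).symm
  · obtain ⟨Y, hYM, hY8, hYY, hYe⟩ := exists_lift_el8 hL hι hS h2 hM
    have hb2 : b ≠ 2 := by rintro rfl; exact hb0 hty.two
    refine uniq_of_el8 hb hb2 hPb hP1 hY8 hYY (hYM.trans inf_le_right) ?_
    intro e he' he1 x hx y hy hxb hyb
    obtain ⟨he2, l, hl, hel⟩ := hYe e he' he1
    have hfix := fix_involution hL.toLHyp0 hM hMA hc hι (hYM he') he2 hl hel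
    have hX1 : P ⊓ centralizer {e} ≠ ⊥ := by
      intro h
      rw [h, mem_bot] at hx
      rw [hx, orderOf_one] at hxb
      exact hb.one_lt.ne hxb
    obtain ⟨z, hz, hzb, hzu⟩ := exists_unique_of_fpf hb (hPb.to_le inf_le_left) hX1
      (V := A ⊓ centralizer {e}) (not_dvd_card ha hb hne.symm (hAa.to_le inf_le_left)) hfix
      (le_normalizer_inf ((inf_le_left.trans hPH).trans hHA) (inf_le_right.trans le_normalizer)) (by
        intro c hc hcb
        by_contra hcon
        obtain ⟨d, hd, hda⟩ := exists_mem_of_ne_bot ha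
          ((hAa.to_le inf_le_left).to_le inf_le_left) hcon
        rw [mem_fix, mem_fix] at hd
        rw [mem_fix] at hc
        exact W.no3 Nat.prime_two hb ha (by rw [hty.two]; exact hb0.symm) hab.symm
          (by rw [hty.two]; exact ha0.symm) he2 hcb hda hc.2 hd.1.2 hd.2)
    have e1 := hzu x hx hxb
    have e2 := hzu y hy hyb
    have e3 : zpowers z ≤ zpowers x := by
      rw [zpowers_le]; exact zpowers_eq_of_mem hzb hxb e1
    exact e3 e2

/-- **Odd kernel**: there are no edges between different odd types. -/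
theorem no_odd_edge (hty : TyHyp ty) (W : WHyp ty v E) (hL : KHyp ty L)
    (hι : Function.Injective ι) (hS : Group.IsSolvable f.ker) (hE : Cov f ι ⊤)
    (h2 : ¬ 2 ∣ Nat.card f.ker) {a b : ℕ} (ha : a.Prime) (hb : b.Prime) (hab : ty a ≠ ty b)
    (ha0 : ty a ≠ 0) (hb0 : ty b ≠ 0) : ¬ Edge f.ker a b := by
  intro he
  have hne : a ≠ b := fun h => hab (by rw [h])
  have haK : a ∣ Nat.card f.ker := by
    obtain ⟨x, hx, y, hy, -, hxa, -⟩ := he
    exact dvd_card_of_mem hx hxa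
  have hbK : b ∣ Nat.card f.ker := by
    obtain ⟨x, hx, y, hy, -, -, hyb⟩ := he
    exact dvd_card_of_mem hy hyb
  obtain ⟨H, hH⟩ := Cfsg.Agent.OddOrderLocal.HallPi.exists_isPiHallOf hS ({a, b} : Set ℕ)
  have hHK : H ≤ f.ker := hH.1
  have hHs : Group.IsSolvable H :=
    Group.isSolvable_of_isSolvable_injective (f := Subgroup.inclusion hHK)
      (Subgroup.inclusion_injective _)
  have hHpi : ∀ t : ℕ, t.Prime → t ∣ Nat.card H → t = a ∨ t = b := by
    intro t ht htd
    have := hH.2.1 t ht htd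
    simpa using this
  by_cases h1 : piCoreOf {a} H = ⊥
  · by_cases h3 : piCoreOf {b} H = ⊥
    · have haH : a ∣ Nat.card H :=
        Cfsg.Agent.OddOrderLocal.HallPi.prime_dvd_card hH ha (by simp) haK
      obtain ⟨h, hh, hha⟩ := exists_mem_of_dvd ha haH
      have h3 : h ∈ fittingOf H := by
        apply mem_fitting' hHs hh
        intro t ht htd
        rcases hHpi t ht htd with rfl | rfl
        · rw [h1]; exact mem_centralizer_bot h
        · rw [h3]; exact mem_centralizer_bot h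
      have h4 : fittingOf H ≤ ⊥ := by
        apply fitting_le
        intro t ht htd
        rcases hHpi t ht htd with rfl | rfl
        · rw [h1]
        · rw [h3]
      have h5 := h4 h3
      rw [mem_bot] at h5
      rw [h5, orderOf_one] at hha
      exact ha.one_lt.ne hha
    · exact no_odd_edge_aux hty W hL hι hS hE h2 hb ha hab.symm hb0 ha0
        (by rw [show ({b, a} : Set ℕ) = {a, b} from Set.pair_comm b a]; exact hH) haK h3 he
  · exact no_odd_edge_aux hty W hL hι hS hE h2 ha hb hab ha0 hb0 hH hbK h1 he.symm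

end edges

end Cfsg.Agent.H381.SzEight
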