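import Cfsg.Agent.H381.SzOne

/-!
# Extensions by Suzuki groups over subfields
-/

set_option autoImplicit false
set_option linter.unusedSectionVars false

namespace Cfsg.Agent.H381.SzGen

open Subgroup
open scoped commutatorElement
open Cfsg (piCoreOf fittingOf IsPiHallOf)
open Cfsg.Agent.H381.Tools
open Cfsg.Agent.H381.Lucido
open Cfsg.Agent.H381.Cover
open Cfsg.Agent.H381.SzCore
open Cfsg.Agent.H381.SzOne
open Cfsg.Agent.H381.Criterion (commutator_zpowers_le normalizer_le_normalizer_centralizer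
  orderOf_prime_pow orderOf_conj exists_unique_of_fpf mem_normalizer_unique mem_centralizer_bot
  le_normalizer_inf)
open Cfsg.Agent.OddOrderLocal.PiCoreOf (piCoreOf_le le_normalizer_piCoreOf)
open Cfsg.Agent.OddOrderLocal.FitCores (isPGroup_piCoreOf core_le_centralizer_core)
open Cfsg.Agent.SignalizersComponents.LocalGlobal (NoFixed)

universe u v w

variable {ty v : ℕ → ℕ} {E : Type u} [Group E] [Finite E] {T : Type v} [Group T] {L : Type w}
  [Group L]

/-- hypotheses on a Suzuki group, possibly over a smaller field -/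
structure KHyp (ty : ℕ → ℕ) (L : Type w) [Group L] : Prop extends LHyp0 ty L where
  frob : ∃ p : ℕ, p.Prime ∧ ty p = 1 ∧ ∃ (A : Subgroup L) (w a : L), IsPGroup 2 A ∧
    w ∈ normalizer (A : Set L) ∧ orderOf w = p ∧ a ∈ A ∧ ¬ Commute w a
  el8 : ∃ A : Subgroup L, Nat.card A = 8 ∧ ∀ x ∈ A, x * x = 1

/-- a nontrivial `O_a(H)` gives a Hall `b`-subgroup with a unique subgroup of order `b` -/
theorem uniq_of_core {f : E →* T} (hS : Group.IsSolvable f.ker) {π : Set ℕ} {H : Subgroup E}
    (hH : IsPiHallOf π H f.ker) {a b : ℕ} (ha : a.Prime) (hb : b.Prime) (hab : a ≠ b) (hbπ : b ∈ π)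
    (hbK : b ∣ Nat.card f.ker) (he : ¬ Edge f.ker a b) (hcore : piCoreOf {a} H ≠ ⊥) :
    ∃ R, IsPiHallOf {b} R f.ker ∧ Uniq b R := by
  have hHK : H ≤ f.ker := hH.1
  have hHs : Group.IsSolvable H :=
    Group.isSolvable_of_isSolvable_injective (f := Subgroup.inclusion hHK)
      (Subgroup.inclusion_injective _)
  obtain ⟨B, hB, hBb⟩ := exists_hall hHs hb
  have hBH : B ≤ H := hB.1
  have hBHall : IsPiHallOf {b} B f.ker := hall_trans hH hbπ hB
  have hAa := isPGroup_piCoreOf ha H
  refine ⟨B, hBHall, exists_unique_of_fpf hb hBb ?_ (not_dvd_card ha hb hab.symm hAa) hcore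
    (hBH.trans (le_normalizer_piCoreOf _ _)) ?_⟩
  · rintro rfl
    have := Cfsg.Agent.OddOrderLocal.HallPi.prime_dvd_card hBHall hb (Set.mem_singleton b) hbK
    rw [card_bot, Nat.dvd_one] at this
    exact hb.one_lt.ne' this
  · intro x hx hxb
    exact fpf_of_not_edge ha he hAa ((piCoreOf_le _ _).trans hHK) (hHK (hBH hx)) hxb

/-- no edge: one of the two Hall subgroups has a unique subgroup of prime order -/
theorem uniq_or {f : E →* T} (hS : Group.IsSolvable f.ker) {a b : ℕ} (ha : a.Prime) (hb : b.Prime)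
    (hab : a ≠ b) (haK : a ∣ Nat.card f.ker) (hbK : b ∣ Nat.card f.ker) (he : ¬ Edge f.ker a b) :
    (∃ R, IsPiHallOf {a} R f.ker ∧ Uniq a R) ∨ (∃ R, IsPiHallOf {b} R f.ker ∧ Uniq b R) := by
  obtain ⟨H, hH⟩ := Cfsg.Agent.OddOrderLocal.HallPi.exists_isPiHallOf hS ({a, b} : Set ℕ)
  have hHK : H ≤ f.ker := hH.1
  have hHs : Group.IsSolvable H :=
    Group.isSolvable_of_isSolvable_injective (f := Subgroup.inclusion hHK)
      (Subgroup.inclusion_injective _)
  have hHpi : ∀ t : ℕ, t.Prime → t ∣ Nat.card H → t = a ∨ t = b := by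
    intro t ht htd
    have := hH.2.1 t ht htd
    simpa using this
  by_cases h1 : piCoreOf {a} H = ⊥
  · by_cases h2 : piCoreOf {b} H = ⊥
    · exfalso
      have haH : a ∣ Nat.card H :=
        Cfsg.Agent.OddOrderLocal.HallPi.prime_dvd_card hH ha (by simp) haK
      obtain ⟨h, hh, hha⟩ := exists_mem_of_dvd ha haH
      have h3 : h ∈ fittingOf H := by
        apply mem_fitting' hHs hh
        intro t ht htd
        rcases hHpi t ht htd with rfl | rfl
        · rw [h1]; exact mem_centralizer_bot h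
        · rw [h2]; exact mem_centralizer_bot h
      have h4 : fittingOf H ≤ ⊥ := by
        apply fitting_le
        intro t ht htd
        rcases hHpi t ht htd with rfl | rfl
        · rw [h1]
        · rw [h2]
      have h5 := h4 h3
      rw [mem_bot] at h5
      rw [h5, orderOf_one] at hha
      exact ha.one_lt.ne hha
    · exact Or.inl (uniq_of_core hS hH hb ha hab.symm (by simp) haK (fun h => he h.symm) h2)
  · exact Or.inr (uniq_of_core hS hH ha hb hab (by simp) hbK he h1)

/-- **A central involution**: the odd primes of the kernel have type `1`. -/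
theorem type_of_central (hty : TyHyp ty) (W : WHyp ty v E) (hL : KHyp ty L) {f : E →* T}
    {ι : L →* T} (hι : Function.Injective ι) (hS : Group.IsSolvable f.ker) (hE : Cov f ι ⊤) {z : E}
    (hz : orderOf z = 2) (hzc : ∀ g : E, Commute z g) {r : ℕ} (hr : r.Prime) (hr2 : r ≠ 2)
    (hrd : r ∣ Nat.card f.ker) : ty r = 1 := by
  by_contra hr1
  have hr0 : ty r ≠ 0 := fun h => hr2 (hty.eq_two r hr h)
  have := hL.simple
  -- elements of odd order in the kernel are not central
  have step1 : ∀ t : ℕ, t.Prime → ty t ≠ 0 → ∀ x : E, orderOf x = t →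
      ¬ Cov f ι (centralizer {x}) := by
    intro t ht ht0 x hx
    exact W.not_cov hL.toLHyp0 hι Nat.prime_two ht (by rw [hty.two]; exact ht0.symm) hz hx (hzc x)
      (fun g _ => mem_cent_iff.mpr (hzc g)) le_rfl
  have nouniq : ∀ t : ℕ, t.Prime → ty t ≠ 0 → t ∣ Nat.card f.ker → ∀ R, IsPiHallOf {t} R f.ker →
      ¬ Uniq t R := by
    intro t ht ht0 htd R hR hu
    obtain ⟨x, hx, hxt⟩ := exists_mem_of_dvd ht htd
    exact step1 t ht ht0 x hxt (cov_of_uniq hL.toLHyp0 hS hE ht hR hu hx hxt)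
  obtain ⟨p, hp, hp1, A, w, a, hA, hw, hwp, ha, hwa⟩ := hL.frob
  have hp2 : p ≠ 2 := by rintro rfl; rw [hty.two] at hp1; omega
  have hpr : p ≠ r := by rintro rfl; exact hr1 hp1
  have hpK : ¬ p ∣ Nat.card f.ker := by
    intro hpd
    have he : ¬ Edge f.ker p r := by
      rintro ⟨x, hx, y, hy, hxy, hxp, hyr⟩
      exact W.no3 Nat.prime_two hp hr (by rw [hty.two, hp1]; norm_num) (by rw [hp1]; exact Ne.symm hr1)
        (by rw [hty.two]; exact hr0.symm) hz hxp hyr (hzc x) (hzc y) hxy
    rcases uniq_or hS hp hr hpr hpd hrd he with ⟨R, hR, hu⟩ | ⟨R, hR, hu⟩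
    · exact nouniq p hp (by rw [hp1]; norm_num) hpd R hR hu
    · exact nouniq r hr hr0 hrd R hR hu
  obtain ⟨R, hR, hRr⟩ := exists_hall hS hr
  have hM : Cov f ι (⊤ ⊓ normalizer (R : Set E)) := hE.frattini hS le_top
    (by rw [normalizer_eq_top]) le_rfl hR
  rw [top_inf_eq] at hM
  obtain ⟨y, hy, hyr⟩ := exists_mem_of_dvd hr
    (Cfsg.Agent.OddOrderLocal.HallPi.prime_dvd_card hR hr (Set.mem_singleton r) hrd)
  have hnc : ¬ Cov f ι (normalizer (R : Set E) ⊓ centralizer (R : Set E)) := by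
    intro hc
    exact step1 r hr hr0 y hyr (hc.mono (inf_le_right.trans (centralizer_le (by simpa using hy))))
  obtain ⟨Y, hYM, g, hg, hY2, hYA, hgY, hgw, m, hm⟩ := hM.lift_pair hS Nat.prime_two hp hA hw
    (k := 1) (by rw [hwp, pow_one])
  have hgp : orderOf g = p := by
    have h1 : g ^ p ∈ f.ker := by
      rw [MonoidHom.mem_ker, map_pow, hgw, ← map_pow, ← hwp, pow_orderOf_eq_one, map_one]
    have h2 : orderOf (g ^ p) ∣ Nat.card f.ker := Subgroup.orderOf_dvd_natCard _ h1
    have h3 : orderOf (g ^ p) ∣ p ^ m := hm ▸ orderOf_pow_dvd p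
    have h4 : (p ^ m).Coprime (Nat.card f.ker) := Nat.Coprime.pow_left m ((hp.coprime_iff_not_dvd).mpr hpK)
    have h5 : orderOf (g ^ p) = 1 := Nat.eq_one_of_dvd_coprimes h4 h3 h2
    rw [orderOf_eq_one_iff] at h5
    have hpf : Fact p.Prime := ⟨hp⟩
    refine orderOf_eq_prime h5 ?_
    rintro rfl
    rw [map_one] at hgw
    have h6 : w = 1 := hι (by rw [← hgw, map_one])
    rw [h6, orderOf_one] at hwp
    exact hp.one_lt.ne hwp
  apply hnc
  have hfix : R ⊓ centralizer {g} = ⊥ := by
    by_contra hne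
    obtain ⟨y', hy', hyr'⟩ := exists_mem_of_ne_bot hr (hRr.to_le inf_le_left) hne
    rw [mem_fix] at hy'
    exact W.no3 Nat.prime_two hp hr (by rw [hty.two, hp1]; norm_num) (by rw [hp1]; exact Ne.symm hr1)
      (by rw [hty.two]; exact hr0.symm) hz hgp hyr' (hzc g) (hzc y') hy'.2
  have hNF : NoFixed.{u} p {2} := by
    apply Cfsg.Agent.SignalizersComponents.NoFixedGen.noFixed hp
    intro _ m hm
    have := hty.fermat p hp hp1 1 m le_rfl (Nat.one_le_iff_ne_zero.mpr hm)
    rw [pow_one] at this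
    have := hp.two_le
    omega
  have h1 := tool hp Nat.prime_two hr hp2 hr2 hpr.symm hNF hRr hY2 hgp hg hgY hYM hfix
  exact hM.centralizer_of_commutator le_rfl hYM hYA hg hgw ha hwa h1

section restrict

variable {f : E →* T} {ι : L →* T}

theorem whyp_subgroup (W : WHyp ty v E) (C : Subgroup E) : WHyp ty v C where
  pi g := by rw [← Subgroup.orderOf_coe]; exact W.pi g
  triple g := by rw [← Subgroup.orderOf_coe]; exact W.triple g
  eight g := by rw [← Subgroup.orderOf_coe]; exact W.eight g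
  bexp g := by rw [← Subgroup.orderOf_coe]; exact W.bexp g

theorem cov_restrict {C : Subgroup E} (h : Cov f ι C) : Cov (f.comp C.subtype) ι ⊤ := by
  rw [Cov, ← Subgroup.map_map, ← MonoidHom.range_eq_map, Subgroup.range_subtype]
  exact h

theorem card_ker_restrict (f : E →* T) (C : Subgroup E) :
    Nat.card (f.comp C.subtype).ker = Nat.card (C ⊓ f.ker : Subgroup E) := by
  have h1 : (f.comp C.subtype).ker.map C.subtype = C ⊓ f.ker := by
    ext x
    rw [mem_inf]
    constructor
    · rintro ⟨y, hy, rfl⟩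
      exact ⟨y.2, hy⟩
    · rintro ⟨hx, hx'⟩
      exact ⟨⟨x, hx⟩, hx', rfl⟩
  rw [← h1]
  exact (Subgroup.card_map_of_injective C.subtype_injective).symm

theorem solvable_restrict (hS : Group.IsSolvable f.ker) (C : Subgroup E) :
    Group.IsSolvable (f.comp C.subtype).ker := by
  let j : (f.comp C.subtype).ker →* f.ker :=
    { toFun := fun x => ⟨((x : C) : E), x.2⟩
      map_one' := rfl
      map_mul' := fun a b => rfl }
  exact Group.isSolvable_of_isSolvable_injective (f := j) (fun a b hab => by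
    apply Subtype.ext; apply Subtype.ext
    exact congrArg (fun z : f.ker => (z : E)) hab)

/-- **Centralisers of involutions**: the odd primes of the kernel have type `1`. -/
theorem type_of_centralizer (hty : TyHyp ty) (W : WHyp ty v E) (hL : KHyp ty L)
    (hι : Function.Injective ι) (hS : Group.IsSolvable f.ker) {z : E} (hz : orderOf z = 2)
    (hE : Cov f ι (centralizer {z})) {r : ℕ} (hr : r.Prime) (hr2 : r ≠ 2)
    (hrd : r ∣ Nat.card (centralizer {z} ⊓ f.ker : Subgroup E)) : ty r = 1 := by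
  have hzC : z ∈ centralizer ({z} : Set E) := mem_cent_iff.mpr (Commute.refl z)
  refine type_of_central (E := centralizer ({z} : Set E)) hty (whyp_subgroup W _) hL hι
    (solvable_restrict hS _) (cov_restrict hE) (z := ⟨z, hzC⟩) ?_ ?_ hr hr2 ?_
  · rw [Subgroup.orderOf_mk, hz]
  · intro g
    exact Subtype.ext (mem_cent_iff.mp g.2).eq
  · rw [card_ker_restrict]; exact hrd

/-- **Central elements** -/
theorem isolated_gen (hty : TyHyp ty) (W : WHyp ty v E) (hL : KHyp ty L)
    (hι : Function.Injective ι) (hS : Group.IsSolvable f.ker) {p r : ℕ} (hp : p.Prime)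
    (hr : r.Prime) {z : E} (hz : orderOf z = p) (hcov : Cov f ι (centralizer {z}))
    (hrd : r ∣ Nat.card (centralizer {z} ⊓ f.ker : Subgroup E)) (hpr : ty p = 0 → ty r ≠ 1) :
    ty r = ty p := by
  by_contra hne
  by_cases hp0 : ty p = 0
  · have hp2 := hty.eq_two p hp hp0
    subst hp2
    have hr2 : r ≠ 2 := by rintro rfl; exact hne rfl
    exact hpr hp0 (type_of_centralizer hty W hL hι hS hz hcov hr hr2 hrd)
  set N : Subgroup E := centralizer {z} ⊓ f.ker with hN
  have hNs : Group.IsSolvable N :=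
    Group.isSolvable_of_isSolvable_injective (f := Subgroup.inclusion (inf_le_right : N ≤ f.ker))
      (Subgroup.inclusion_injective _)
  have hnorm : centralizer {z} ≤ normalizer (N : Set E) := by
    apply le_normalizer_inf le_normalizer
    rw [normalizer_eq_top]; exact le_top
  obtain ⟨R, hR, hRr⟩ := exists_hall hNs hr
  have hRN : R ≤ N := hR.1
  set M : Subgroup E := centralizer {z} ⊓ normalizer (R : Set E) with hM
  have hMcov : Cov f ι M := hcov.frattini hNs inf_le_left hnorm inf_le_right hR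
  have hMR : M ≤ normalizer (R : Set E) := inf_le_right
  have hMz : M ≤ centralizer {z} := inf_le_left
  obtain ⟨y, hy, hyr⟩ := exists_mem_of_dvd hr
    (Cfsg.Agent.OddOrderLocal.HallPi.prime_dvd_card hR hr (Set.mem_singleton r) hrd)
  have hzy : Commute z y := mem_cent_iff.mp (mem_inf.mp (hRN hy)).1
  have hnc : ¬ Cov f ι (M ⊓ centralizer (R : Set E)) := by
    apply W.not_cov hL.toLHyp0 hι hp hr (Ne.symm hne) hz hyr hzy (inf_le_left.trans hMz)
    exact inf_le_right.trans (centralizer_le (by simpa using hy))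
  have hr2 : r ≠ 2 := by
    rintro rfl
    exact hnc (two_central W hL.toLHyp0 hS hMcov hMR hRr)
  have hr0 : ty r ≠ 0 := fun h => hr2 (hty.eq_two r hr h)
  obtain ⟨i, hi, hi2, x, hx, hix⟩ := exists_involution W hL.toLHyp0 hι hMcov
  have hiR := fix_involution hL.toLHyp0 hMcov hMR hnc hι hi hi2 hx hix
  obtain ⟨y', hy', hyr'⟩ := exists_mem_of_ne_bot hr (hRr.to_le inf_le_left) hiR
  rw [mem_fix] at hy'
  exact W.no3 hp hr Nat.prime_two (Ne.symm hne) (by rw [hty.two]; exact hr0)
    (by rw [hty.two]; exact hp0) hz hyr' hi2 (mem_cent_iff.mp (mem_inf.mp (hRN hy'.1)).1)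
    (mem_cent_iff.mp (hMz hi)) hy'.2.symm

/-- no edge from central elements -/
theorem no_edge (hty : TyHyp ty) (W : WHyp ty v E) (hL : KHyp ty L)
    (hι : Function.Injective ι) (hS : Group.IsSolvable f.ker) {p r : ℕ} (hp : p.Prime)
    (hr : r.Prime) (hne : ty r ≠ ty p) (hpr : ty p = 0 → ty r ≠ 1)
    (hc : ∀ z ∈ f.ker, orderOf z = p → Cov f ι (centralizer {z})) : ¬ Edge f.ker p r := by
  rintro ⟨z, hz, w, hw, hzw, hzp, hwr⟩
  exact hne (isolated_gen hty W hL hι hS hp hr hzp (hc z hz hzp)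
    (dvd_card_of_mem (mem_inf.mpr ⟨mem_cent_iff.mpr hzw, hw⟩) hwr) hpr)

/-- involutions of the kernel are central -/
theorem central_two (W : WHyp ty v E) (hL : KHyp ty L) (hS : Group.IsSolvable f.ker)
    (hE : Cov f ι ⊤) {z : E} (hz : z ∈ f.ker) (hz2 : orderOf z = 2) : Cov f ι (centralizer {z}) := by
  obtain ⟨P, hP, hPp⟩ := exists_hall hS Nat.prime_two
  apply cov_of_hall hS Nat.prime_two hP _ hz hz2
  intro w hw hwp
  have hM : Cov f ι (⊤ ⊓ normalizer (P : Set E)) := hE.frattini hS le_top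
    (by rw [normalizer_eq_top]) le_rfl hP
  rw [top_inf_eq] at hM
  have h1 := two_central W hL.toLHyp0 hS hM le_rfl hPp
  exact h1.mono (inf_le_right.trans (centralizer_le (by simpa using hw)))

/-- a Hall subgroup with a unique subgroup of prime order gives no edges -/
theorem no_edge_of_uniq (hty : TyHyp ty) (W : WHyp ty v E) (hL : KHyp ty L)
    (hι : Function.Injective ι) (hS : Group.IsSolvable f.ker) (hE : Cov f ι ⊤) {p r : ℕ}
    (hp : p.Prime) (hr : r.Prime) (hne : ty r ≠ ty p) (hp0 : ty p ≠ 0) {R : Subgroup E}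
    (hR : IsPiHallOf {p} R f.ker) (hu : Uniq p R) : ¬ Edge f.ker p r :=
  no_edge hty W hL hι hS hp hr hne (fun h => absurd h hp0)
    (fun _ hz hzp => cov_of_uniq hL.toLHyp0 hS hE hp hR hu hz hzp)

/-- **Odd kernel**: `2`, `x`, `y` of types `0`, `2`, `3` cannot all divide the order of the kernel. -/
theorem not_all (hty : TyHyp ty) (W : WHyp ty v E) (hL : KHyp ty L) (hι : Function.Injective ι)
    (hS : Group.IsSolvable f.ker) (hE : Cov f ι ⊤) {x y : ℕ} (hx : x.Prime) (hy : y.Prime)
    (hx0 : ty x ≠ 0) (hy0 : ty y ≠ 0) (hx1 : ty x ≠ 1) (hy1 : ty y ≠ 1) (hxy : ty x ≠ ty y)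
    (h2 : 2 ∣ Nat.card f.ker) (hxK : x ∣ Nat.card f.ker) (hyK : y ∣ Nat.card f.ker) : False := by
  have t2 := hty.two
  have n2x : (2 : ℕ) ≠ x := fun h => hx0 (by rw [← h, t2])
  have n2y : (2 : ℕ) ≠ y := fun h => hy0 (by rw [← h, t2])
  have nxy : x ≠ y := fun h => hxy (by rw [h])
  have epx : ¬ Edge f.ker 2 x := no_edge hty W hL hι hS Nat.prime_two hx (by rw [t2]; exact hx0)
    (fun _ => hx1) (fun z hz hz2 => central_two W hL hS hE hz hz2)
  have epy : ¬ Edge f.ker 2 y := no_edge hty W hL hι hS Nat.prime_two hy (by rw [t2]; exact hy0)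
    (fun _ => hy1) (fun z hz hz2 => central_two W hL hS hE hz hz2)
  have exy : Edge f.ker x y := by
    rcases lucido hS Nat.prime_two hx hy n2x n2y nxy h2 hxK hyK with h | h | h
    exacts [absurd h epx, absurd h epy, h]
  have C : Core ty v f ι 2 x y := by
    refine ⟨hty, W, hL.toLHyp0, hι, hS, hE, Nat.prime_two, hx, hy, by rw [t2]; exact hx0.symm,
      by rw [t2]; exact hy0.symm, hxy, hx0, hy0, h2, hxK, hyK, epx, epy, ?_, ?_, ?_, ?_⟩
    · intro R hR hu
      exact no_edge_of_uniq hty W hL hι hS hE hx hy hxy.symm hx0 hR hu exy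
    · intro R hR hu
      exact no_edge_of_uniq hty W hL hι hS hE hy hx hxy hy0 hR hu exy.symm
    · intro z hz hzx hc hd
      exact hxy (isolated_gen hty W hL hι hS hx hy hzx hc hd (fun h => absurd h hx0)).symm
    · intro z hz hzx hc hd
      exact hxy (isolated_gen hty W hL hι hS hy hx hzx hc hd (fun h => absurd h hy0))
  exact C.false

end restrict

end Cfsg.Agent.H381.SzGen
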