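import Cfsg.Agent.H381.SzPair
import Cfsg.Agent.H381.Crit

/-!
# Assembly: the case of a prime exponent
-/

set_option autoImplicit false
set_option linter.unusedSectionVars false

namespace Cfsg.Agent.H381.SzMain

open Subgroup
open Cfsg (IsComponent layer fittingSubgroup generalizedFittingSubgroup Out Inn)
open Cfsg.Agent.SignalizersComponents
open Cfsg.Agent.H98.SzPartition (torusOrders mem_torusOrders_iff odd_of_mem one_lt_of_mem eq_of_prime_dvd
  sylow_or_torus)
open Cfsg.Agent.H381.SzSpec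
open Cfsg.Agent.H381.SzComp
open Cfsg.Agent.H381.SzCore
open Cfsg.Agent.H381.SzRed
open Cfsg.Agent.H381.SzPair
open Cfsg.Agent.H381.Cover
open Cfsg.Agent.H381.Tools

variable {F : Type*} [Field F] [Fintype F] {m : ℕ}

theorem ty_five (hm : 1 ≤ m) : ty m 5 = 2 ∨ ty m 5 = 3 := by
  have h : 5 ∣ 2 ^ (2 * (2 * m + 1)) + 1 := by
    have h1 : Odd (2 * m + 1) := ⟨m, rfl⟩
    have h2 := h1.nat_add_dvd_pow_add_pow (2 ^ 2) 1
    rw [one_pow, ← pow_mul] at h2
    norm_num at h2
    exact h2
  rw [← mul_eq m] at h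
  have h5 : Nat.Prime 5 := by norm_num
  rcases (Nat.Prime.dvd_mul h5).mp h with h | h
  · exact Or.inr (ty_three h5 h)
  · exact Or.inl (ty_eq_two hm h5 h)

/-- elements of Suzuki subgroups -/
theorem comp_elems (hm : 1 ≤ m) (hF : Fintype.card F = 2 ^ (2 * m + 1)) {Q : Type*} [Group Q]
    [Finite Q] (hQ : OrdLe F m Q) (hfit : fittingSubgroup Q = ⊥) {K : Subgroup Q}
    (hK : IsComponent K) :
    (∃ a ∈ K, orderOf a = 2) ∧ (∃ p : ℕ, p.Prime ∧ ty m p = 1 ∧ ∃ b ∈ K, orderOf b = p) ∧
      ∃ c ∈ K, orderOf c = 5 := by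
  obtain ⟨F', hf, hff, m', hm', hF', hdvd, ⟨e⟩⟩ := component hm hF hQ hfit hK
  obtain ⟨y, s, hy, hs, -⟩ := exists_five (F := F') (m := m') hF'
  obtain ⟨g, hg⟩ := exists_torus (F := F') hm' hF' (mem_one m')
  obtain ⟨p, hp, hpd⟩ := Nat.exists_prime_and_dvd (one_lt_of_mem hm' (mem_one m')).ne'
  refine ⟨⟨e.symm (s ^ 2), (e.symm (s ^ 2)).2, ?_⟩, ⟨p, hp, ?_, e.symm (g ^ ((2 ^ (2 * m' + 1) - 1) / p)),
    (e.symm _).2, ?_⟩, ⟨e.symm y, (e.symm y).2, ?_⟩⟩
  · rw [Subgroup.orderOf_coe, MulEquiv.orderOf_eq, orderOf_pow' _ (by norm_num), hs]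
    norm_num
  · apply ty_one
    obtain ⟨l, hl⟩ := hdvd
    rw [hl, pow_mul]
    have := Nat.sub_dvd_pow_sub_pow (2 ^ (2 * m' + 1)) 1 l
    rw [one_pow] at this
    exact hpd.trans this
  · rw [Subgroup.orderOf_coe, MulEquiv.orderOf_eq, ← hg]
    exact orderOf_pow_orderOf_div (orderOf_pos g).ne' (by rw [hg]; exact hpd)
  · rw [Subgroup.orderOf_coe, MulEquiv.orderOf_eq, hy]

/-- there are at most two components -/
theorem no_three (hm : 1 ≤ m) (hF : Fintype.card F = 2 ^ (2 * m + 1)) {Q : Type*} [Group Q]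
    [Finite Q] (hQ : OrdLe F m Q) (hfit : fittingSubgroup Q = ⊥) {K₁ K₂ K₃ : Subgroup Q}
    (h₁ : IsComponent K₁) (h₂ : IsComponent K₂) (h₃ : IsComponent K₃) (h12 : K₁ ≠ K₂)
    (h13 : K₁ ≠ K₃) (h23 : K₂ ≠ K₃) : False := by
  obtain ⟨⟨a, ha, ha2⟩, -, -⟩ := comp_elems hm hF hQ hfit h₁
  obtain ⟨-, ⟨p, hp, hp1, b, hb, hbp⟩, -⟩ := comp_elems hm hF hQ hfit h₂
  obtain ⟨-, -, c, hc, hc5⟩ := comp_elems hm hF hQ hfit h₃
  have comm : ∀ {K L : Subgroup Q}, IsComponent K → IsComponent L → K ≠ L → ∀ {x y : Q}, x ∈ K → y ∈ L →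
      Commute x y := by
    intro K L hK hL hKL x y hx hy
    exact LayerCenter.pairwise_commute_component (i := ⟨K, hK⟩) (j := ⟨L, hL⟩)
      (fun h => hKL (congrArg Subtype.val h)) x y hx hy
  have h5 : ty m 5 ≠ 0 ∧ ty m 5 ≠ 1 := by
    rcases ty_five hm with h | h <;> rw [h] <;> norm_num
  exact (hQ.whyp hm hF).no3 Nat.prime_two hp (by norm_num : Nat.Prime 5) (by rw [ty_two, hp1]; norm_num)
    (by rw [hp1]; exact h5.2.symm) (by rw [ty_two]; exact h5.1.symm) ha2 hbp hc5
    (comm h₁ h₂ h12 ha hb) (comm h₁ h₃ h13 ha hc) (comm h₂ h₃ h23 hb hc)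

theorem structure_of (hm : 1 ≤ m) (hF : Fintype.card F = 2 ^ (2 * m + 1)) {Q : Type*} [Group Q]
    [Finite Q] [Nontrivial Q] (hQ : OrdLe F m Q) (hfit : fittingSubgroup Q = ⊥) :
    (∃ K : Subgroup Q, IsComponent K ∧ K.Normal ∧ centralizer (K : Set Q) = ⊥) ∨
    (∃ K₁ K₂ : Subgroup Q, IsComponent K₁ ∧ IsComponent K₂ ∧ Pair K₁ K₂) := by
  have hcent := centralizer_layer hfit
  have hln : (layer Q).Normal := Components.layer_normal Q
  have hex : ∃ K : Subgroup Q, IsComponent K := by
    by_contra hcon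
    push Not at hcon
    have h1 : layer Q = ⊥ := by
      rw [eq_bot_iff, Components.layer_le_iff]
      intro K hK
      exact absurd hK (hcon K)
    rw [h1] at hcent
    have h4 : centralizer ((⊥ : Subgroup Q) : Set Q) = ⊤ := by
      rw [eq_top_iff]
      intro x _
      rw [mem_centralizer_iff]
      intro y hy
      rw [SetLike.mem_coe, mem_bot] at hy
      rw [hy, one_mul, mul_one]
    rw [h4] at hcent
    exact top_ne_bot hcent
  obtain ⟨K₁, h₁⟩ := hex
  by_cases huniq : ∀ K : Subgroup Q, IsComponent K → K = K₁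
  · left
    have h1 : layer Q = K₁ := by
      apply le_antisymm
      · rw [Components.layer_le_iff]
        intro K hK
        exact (huniq K hK).le
      · exact Components.component_le_layer h₁
    rw [h1] at hcent hln
    exact ⟨K₁, h₁, hln, hcent⟩
  · right
    push Not at huniq
    obtain ⟨K₂, h₂, h21⟩ := huniq
    have hall : ∀ K : Subgroup Q, IsComponent K → K = K₁ ∨ K = K₂ := by
      intro K hK
      by_contra hcon
      push Not at hcon
      exact no_three hm hF hQ hfit h₁ h₂ hK h21.symm hcon.1.symm hcon.2.symm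
    have h1 : layer Q = K₁ ⊔ K₂ := by
      apply le_antisymm
      · rw [Components.layer_le_iff]
        intro K hK
        rcases hall K hK with rfl | rfl
        · exact le_sup_left
        · exact le_sup_right
      · exact sup_le (Components.component_le_layer h₁) (Components.component_le_layer h₂)
    have conj : ∀ {x : Q} {K L : Subgroup Q}, K.map (MulAut.conj x).toMonoidHom = L →
        ∀ y, y ∈ K ↔ x * y * x⁻¹ ∈ L := by
      intro x K L h y
      rw [← h]
      constructor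
      · intro hy
        exact ⟨y, hy, rfl⟩
      · rintro ⟨z, hz, hzy⟩
        have h3 : x * z * x⁻¹ = x * y * x⁻¹ := hzy
        have h4 : z = y := by simpa using h3
        rwa [← h4]
    refine ⟨K₁, K₂, h₁, h₂, ?_, ?_, ?_⟩
    · intro x hx y hy
      exact LayerCenter.pairwise_commute_component (i := ⟨K₁, h₁⟩) (j := ⟨K₂, h₂⟩)
        (fun h => h21 (congrArg Subtype.val h).symm) x y hx hy
    · intro x hx hy
      have h5 : x ∈ centralizer ((layer Q : Subgroup Q) : Set Q) := by
        have h6 : layer Q ≤ centralizer {x} := by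
          rw [h1]
          refine sup_le (fun y hy' => ?_) (fun y hy' => ?_)
          · exact mem_cent_iff.mpr (mem_centralizer_iff.mp hx y hy').symm
          · exact mem_cent_iff.mpr (mem_centralizer_iff.mp hy y hy').symm
        rw [mem_centralizer_iff]
        intro y hy'
        exact (mem_cent_iff.mp (h6 hy')).symm
      rwa [hcent, mem_bot] at h5
    · intro x
      have k1 := Components.isComponent_conj x h₁
      have k2 := Components.isComponent_conj x h₂
      have hinj : K₁.map (MulAut.conj x).toMonoidHom ≠ K₂.map (MulAut.conj x).toMonoidHom := by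
        intro h
        exact h21 (Subgroup.map_injective (MulAut.conj x).injective h).symm
      rcases hall _ k1 with e1 | e1 <;> rcases hall _ k2 with e2 | e2
      · exact absurd (e1.trans e2.symm) hinj
      · left
        exact ⟨mem_normalizer_iff.mpr (conj e1), mem_normalizer_iff.mpr (conj e2)⟩
      · right
        exact fun y => ⟨conj e1 y, conj e2 y⟩
      · exact absurd (e1.trans e2.symm) hinj

/-- **The case of a prime exponent.** -/
theorem main (hm : 1 ≤ m) (hF : Fintype.card F = 2 ^ (2 * m + 1)) {G : Type*} [Group G] [Finite G]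
    (hG : OrdLe F m G) (hG' : ∀ x : LS F m × LS F m, ∃ g : G, orderOf g = orderOf x)
    (hns : ¬ Group.IsSolvable G) (hu : ∀ m' : ℕ, 1 ≤ m' → (2 * m' + 1) ∣ (2 * m + 1) → m' = m)
    (hn : ∀ p : ℕ, p.Prime → p ∣ 2 * m + 1 → 4 ≤ ty m p) : Nonempty (G ≃* LS F m × LS F m) := by
  obtain ⟨S, hSc, hS, hmax⟩ := ComponentExists.exists_solvableRadical G
  have hSn : S.Normal := inferInstance
  have hfit := fitting_quot hS hmax
  have hnt : Nontrivial (G ⧸ S) := by
    rw [QuotientGroup.nontrivial_iff]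
    rintro rfl
    exact hns (Group.isSolvable_of_isSolvable_injective (f := (Subgroup.topEquiv (G := G)).symm.toMonoidHom)
      (Subgroup.topEquiv (G := G)).symm.injective)
  have hf := QuotientGroup.mk'_surjective S
  have hQ : OrdLe F m (G ⧸ S) := hG.map hf
  have hker : Group.IsSolvable (QuotientGroup.mk' S).ker := by
    rw [QuotientGroup.ker_mk']; exact hS
  have iso : ∀ K : Subgroup (G ⧸ S), IsComponent K → Nonempty (K ≃* LS F m) := by
    intro K hK
    obtain ⟨F', hf', hff, m', hm', hF', hdvd, ⟨e⟩⟩ := component hm hF hQ hfit hK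
    obtain rfl := hu m' hm' hdvd
    obtain ⟨e'⟩ := iso_of_card_eq (m := m') hF hF'
    exact ⟨e.trans e'⟩
  rcases structure_of hm hF hQ hfit with ⟨K, hK, hKn, hKc⟩ | ⟨K₁, K₂, h₁, h₂, hP⟩
  · obtain ⟨e⟩ := iso K hK
    refine (one_component_false hm hF hG hG' hf hker e ?_).elim
    intro x
    obtain ⟨k, hk, hkx⟩ := pow_mem hm hF e (x := x) (by rw [normalizer_eq_top]; exact mem_top x)
    rw [hKc, mem_bot, inv_mul_eq_one] at hkx
    rwa [← hkx]
  · obtain ⟨e₁⟩ := iso K₁ h₁
    obtain ⟨e₂⟩ := iso K₂ h₂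
    have cop : ∀ x : G ⧸ S, (2 * m + 1).Coprime (orderOf x) := by
      intro x
      rw [Nat.coprime_iff_gcd_eq_one]
      by_contra hne
      obtain ⟨p, hp, hpd⟩ := Nat.exists_prime_and_dvd hne
      have h3 := hn p hp (hpd.trans (Nat.gcd_dvd_left _ _))
      have h4 := (hQ.whyp hm hF).pi x p hp (hpd.trans (Nat.gcd_dvd_right _ _))
      omega
    exact two_components hm hF hG hf hker e₁ e₂ hP
      (fun x hx _ => inner_of_coprime hm hF e₁ hx (cop x))
      (fun x _ hx => inner_of_coprime hm hF e₂ hx (cop x))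

end Cfsg.Agent.H381.SzMain
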