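import Cfsg.Agent.H381.SzRed
import Cfsg.Agent.H381.Crit

/-!
# Nonsolvability of groups with the element orders of `Sz(q) × Sz(q)`, `q ≥ 128`
-/

set_option autoImplicit false
set_option linter.unusedSectionVars false

namespace Cfsg.Agent.H381.SzNonsol

open Subgroup
open Cfsg.Agent.H98.SzPartition (torusOrders mem_torusOrders_iff odd_of_mem one_lt_of_mem eq_of_prime_dvd
  sylow_or_torus)
open Cfsg.Agent.H381.SzSpec
open Cfsg.Agent.H381.SzComp
open Cfsg.Agent.H381.SzCore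
open Cfsg.Agent.H381.SzRed
open Cfsg.Agent.H381.Cover
open Cfsg.Agent.H381.Tools

variable {F : Type*} [Field F] [Fintype F] {m : ℕ}

theorem five_pow_ne (hm : 3 ≤ m) (k : ℕ) : 5 ^ k ≠ 2 ^ (2 * m + 1) - 2 ^ (m + 1) + 1 ∧
    5 ^ k ≠ 2 ^ (2 * m + 1) + 2 ^ (m + 1) + 1 := by
  obtain ⟨r, hr, hr4⟩ : ∃ r : ℕ, 2 ^ (m - 1) = r ∧ 4 ≤ r :=
    ⟨_, rfl, by
      have : 2 ^ 2 ≤ 2 ^ (m - 1) := Nat.pow_le_pow_right (by norm_num) (by omega)
      omega⟩
  have e1 : 2 ^ (m + 1) = 4 * r := by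
    rw [← hr, show m + 1 = (m - 1) + 2 by omega, pow_add]; ring
  have e2 : 2 ^ (2 * m + 1) = 8 * (r * r) := by
    rw [← hr, show 2 * m + 1 = (m - 1) + (m - 1) + 3 by omega, pow_add, pow_add]; ring
  have hr2 : 4 ∣ r := by
    rw [← hr]; exact pow_dvd_pow 2 (m := 2) (by omega)
  obtain ⟨r', rfl⟩ := hr2
  have hmul : 4 * r' ≤ 4 * r' * (4 * r') := Nat.le_mul_self _
  -- the exponent is divisible by four
  have hmod : ∀ z : ℕ, z % 16 = 1 → 5 ^ k = z → 4 ∣ k := by
    intro z hz h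
    have h1 : 5 ^ k % 16 = 1 := by rw [h]; exact hz
    rw [← Nat.div_add_mod k 4, pow_add, pow_mul, Nat.mul_mod, Nat.pow_mod] at h1
    norm_num at h1
    have h2 : k % 4 < 4 := Nat.mod_lt _ (by norm_num)
    generalize hk : k % 4 = t at h1 h2
    interval_cases t <;> norm_num at h1
    exact Nat.dvd_of_mod_eq_zero hk
  have key : ∀ s : ℤ, (s = 1 ∨ s = -1) → ((5 : ℤ) ^ k = 8 * (4 * r' * (4 * r')) + s * (4 * (4 * r')) + 1) →
      4 ∣ k → False := by
    intro s hs h hk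
    obtain ⟨j, rfl⟩ := hk
    set z : ℤ := 25 ^ j with hz
    have hz1 : (5 : ℤ) ^ (4 * j) = z * z := by
      rw [hz, ← pow_two, ← pow_mul, show (25 : ℤ) = 5 ^ 2 by norm_num, ← pow_mul]
      congr 1; ring
    rw [hz1] at h
    have hz8 : ∃ c : ℤ, z = 8 * c + 1 := by
      have h3 := sub_dvd_pow_sub_pow (25 : ℤ) 1 j
      rw [one_pow] at h3
      obtain ⟨c, hc⟩ := h3
      exact ⟨3 * c, by rw [hz]; linarith⟩
    obtain ⟨c, hc⟩ := hz8
    have h5 : (2 ^ (m - 1) : ℤ) = 4 * r' := by exact_mod_cast hr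
    have h4 : 4 * c * (4 * c + 1) = (4 * r' : ℤ) * (2 * (4 * r') + s) := by
      rw [hc] at h
      nlinarith
    have h7 : (4 * r' : ℤ) ∣ 4 * c := by
      have h8 : IsCoprime (4 * r' : ℤ) (4 * c + 1) := by
        rw [← h5]
        apply IsCoprime.pow_left
        exact ⟨-(2 * c), 1, by ring⟩
      apply h8.dvd_of_dvd_mul_right
      rw [h4]
      exact dvd_mul_right _ _
    obtain ⟨u, hu⟩ := h7
    have hr0 : (4 * r' : ℤ) ≠ 0 := by omega
    have h9 : u * (4 * r' * u + 1) = 2 * (4 * r') + s := by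
      have h10 : (4 * r' : ℤ) * (u * (4 * r' * u + 1)) = (4 * r' : ℤ) * (2 * (4 * r') + s) := by
        rw [← h4, hu]; ring
      exact mul_left_cancel₀ hr0 h10
    have hr1 : (1 : ℤ) ≤ r' := by omega
    have hz0 : 0 < z := by rw [hz]; positivity
    have hu0 : 0 ≤ u := by
      by_contra hneg
      have : u ≤ -1 := by omega
      nlinarith
    have hu3 : u = 0 ∨ u = 1 ∨ 2 ≤ u := by omega
    rcases hu3 with rfl | rfl | h2
    · rcases hs with rfl | rfl <;> omega
    · rcases hs with rfl | rfl <;> omega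
    · have h11 : u * (4 * r' * u + 1) ≥ 2 * (4 * r' * 2 + 1) := by nlinarith
      rcases hs with rfl | rfl <;> omega
  constructor
  · intro h
    rw [e1, e2] at h
    refine key (-1) (Or.inr rfl) ?_ (hmod _ ?_ h)
    · have h1 : ((5 ^ k : ℕ) : ℤ) = ((8 * (4 * r' * (4 * r')) - 4 * (4 * r') + 1 : ℕ) : ℤ) := by rw [h]
      rw [Nat.cast_add, Nat.cast_sub (by omega)] at h1
      push_cast at h1
      linarith
    · have h2 : 4 * r' * (4 * r') = 16 * (r' * r') := by ring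
      rw [h2] at hmul ⊢
      generalize r' * r' = w at hmul ⊢
      omega
  · intro h
    rw [e1, e2] at h
    refine key 1 (Or.inl rfl) ?_ (hmod _ ?_ h)
    · have h1 : ((5 ^ k : ℕ) : ℤ) = ((8 * (4 * r' * (4 * r')) + 4 * (4 * r') + 1 : ℕ) : ℤ) := by rw [h]
      push_cast at h1
      linarith
    · have h2 : 4 * r' * (4 * r') = 16 * (r' * r') := by ring
      rw [h2] at hmul ⊢
      generalize r' * r' = w at hmul ⊢
      omega

/-- a Fermat prime dividing `q ^ 2 + 1` is `5` -/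
theorem eq_five {p k : ℕ} (hp : p.Prime) (hk : k ≠ 0) (hpk : p = 2 ^ k + 1)
    (h : p ∣ 2 ^ (2 * (2 * m + 1)) + 1) : p = 5 := by
  have hpf : Fact p.Prime := ⟨hp⟩
  obtain ⟨j, hj⟩ := Nat.pow_of_pow_add_prime (by norm_num) hk (hpk ▸ hp)
  have hp2 : p ≠ 2 := by
    rintro rfl
    have : 2 ∣ 2 ^ k := dvd_pow_self 2 hk
    omega
  have e1 : (2 : ZMod p) ^ k = -1 := by
    have : ((2 ^ k + 1 : ℕ) : ZMod p) = 0 := (ZMod.natCast_eq_zero_iff _ _).mpr (hpk ▸ dvd_rfl)
    push_cast at this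
    linear_combination this
  have e2 : (2 : ZMod p) ^ (2 * (2 * m + 1)) = -1 := by
    have : ((2 ^ (2 * (2 * m + 1)) + 1 : ℕ) : ZMod p) = 0 := (ZMod.natCast_eq_zero_iff _ _).mpr h
    push_cast at this
    linear_combination this
  have hne : (-1 : ZMod p) ≠ 1 := by
    intro e3
    have e4 : ((2 : ℕ) : ZMod p) = 0 := by
      push_cast
      linear_combination -e3
    rw [ZMod.natCast_eq_zero_iff] at e4
    exact hp2 ((Nat.prime_dvd_prime_iff_eq hp Nat.prime_two).mp e4)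
  rcases j with _ | _ | j
  · -- `p = 3`
    exfalso
    rw [pow_zero] at hj
    subst hj
    have h3 : p = 3 := by omega
    subst h3
    have h4 : (2 : ZMod 3) ^ (2 * (2 * m + 1)) = 1 := by
      rw [pow_mul]
      have : (2 : ZMod 3) ^ 2 = 1 := by
        have h5 : ((4 : ℕ) : ZMod 3) = ((1 : ℕ) : ZMod 3) := (ZMod.natCast_eq_natCast_iff' 4 1 3).mpr rfl
        push_cast at h5
        rw [← h5]; norm_num
      rw [this, one_pow]
    exact hne (e2.symm.trans h4)
  · norm_num at hj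
    subst hj
    rw [hpk]; norm_num
  · exfalso
    have e5 : ((2 : ZMod p) ^ (2 * (2 * m + 1))) ^ (2 ^ (j + 1)) = ((2 : ZMod p) ^ k) ^ (2 * m + 1) := by
      rw [← pow_mul, ← pow_mul, hj]
      congr 1
      ring
    rw [e1, e2] at e5
    have e6 : (-1 : ZMod p) ^ (2 ^ (j + 1)) = 1 := Even.neg_one_pow ⟨2 ^ j, by ring⟩
    have e7 : (-1 : ZMod p) ^ (2 * m + 1) = -1 := Odd.neg_one_pow ⟨m, rfl⟩
    rw [e6, e7] at e5
    exact hne e5.symm

theorem exists_prime_ne_five {n : ℕ} (hn : n ≠ 0) (h : ∀ k : ℕ, 5 ^ k ≠ n) :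
    ∃ p : ℕ, p.Prime ∧ p ∣ n ∧ p ≠ 5 := by
  by_contra hcon
  push Not at hcon
  have h5 := Nat.eq_prime_pow_of_unique_prime_dvd hn (fun {d} hd hdn => hcon d hd hdn)
  exact h _ h5.symm

/-- **Nonsolvability** for `q ≥ 128`. -/
theorem not_solvable (hm : 3 ≤ m) (hF : Fintype.card F = 2 ^ (2 * m + 1)) {G : Type*} [Group G]
    [Finite G] (hG : OrdLe F m G) (hG' : ∀ x : LS F m × LS F m, ∃ g : G, orderOf g = orderOf x) :
    ¬ Group.IsSolvable G := by
  have hm1 : 1 ≤ m := by omega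
  obtain ⟨b, hb, hbd⟩ := Nat.exists_prime_and_dvd (one_lt_of_mem hm1 (mem_one m)).ne'
  obtain ⟨x, hx, hxd, hx5⟩ := exists_prime_ne_five (zero_lt_one.trans (one_lt_of_mem hm1 (mem_two m))).ne'
    (fun k => (five_pow_ne hm k).1)
  obtain ⟨y, hy, hyd, hy5⟩ := exists_prime_ne_five
    (zero_lt_one.trans (one_lt_of_mem hm1 (mem_three m))).ne' (fun k => (five_pow_ne hm k).2)
  have tb := ty_one (m := m) hbd
  have tx := ty_eq_two hm1 hx hxd
  have ty' := ty_three hy hyd
  have t2 := ty_two m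
  -- elements of prime order
  have hel : ∀ a ∈ ({2, b, x, y} : Set ℕ), a.Prime ∧ ty m a < 4 ∧ ∃ g : LS F m, orderOf g = a := by
    have aux : ∀ a i : ℕ, a.Prime → i < 4 → a ∣ N m i → ∃ g : LS F m, orderOf g = a := by
      intro a i ha hi hd
      obtain ⟨g, hg⟩ := exists_N (F := F) hm1 hF i
      exact ⟨_, orderOf_pow_orderOf_div (orderOf_pos g).ne' (by rw [hg]; exact hd)⟩
    intro a ha
    simp only [Set.mem_insert_iff, Set.mem_singleton_iff] at ha
    rcases ha with rfl | rfl | rfl | rfl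
    · exact ⟨Nat.prime_two, by omega, aux 2 0 Nat.prime_two (by norm_num) (by norm_num [N])⟩
    · exact ⟨hb, by omega, aux _ 1 hb (by norm_num) (by simpa [N] using hbd)⟩
    · exact ⟨hx, by omega, aux _ 2 hx (by norm_num) (by simpa [N] using hxd)⟩
    · exact ⟨hy, by omega, aux _ 3 hy (by norm_num) (by simpa [N] using hyd)⟩
  have hinj : ∀ a ∈ ({2, b, x, y} : Set ℕ), ∀ c ∈ ({2, b, x, y} : Set ℕ), a ≠ c → ty m a ≠ ty m c := by
    intro a ha c hc hac
    simp only [Set.mem_insert_iff, Set.mem_singleton_iff] at ha hc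
    rcases ha with rfl | rfl | rfl | rfl <;> rcases hc with rfl | rfl | rfl | rfl <;>
      first | exact absurd rfl hac | omega
  refine Criterion.not_solvable (p := 2) (q := b) (r := x) (s := y) Nat.prime_two hb hx hy
    (by rintro rfl; omega) (by rintro rfl; omega) (by rintro rfl; omega) (by rintro rfl; omega)
    (by rintro rfl; omega) (by rintro rfl; omega) ?_ ?_ ?_
  · intro a ha c hc hac
    obtain ⟨hap, -, g, hg⟩ := hel a ha
    obtain ⟨hcp, -, g', hg'⟩ := hel c hc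
    obtain ⟨k, hk⟩ := hG' (g, g')
    refine ⟨k, ?_⟩
    rw [hk, Prod.orderOf_mk, hg, hg']
    exact ((Nat.coprime_primes hap hcp).mpr hac).lcm_eq_mul
  · intro a ha c hc d hd hac hcd had g hg
    rcases (hG.whyp hm1 hF).triple g a c d (hel a ha).1 (hel c hc).1 (hel d hd).1
      (by rw [hg, mul_assoc]; exact dvd_mul_right _ _)
      (by rw [hg]; exact (dvd_mul_left c a).mul_right d) (by rw [hg]; exact dvd_mul_left _ _) with h | h | h
    exacts [hinj a ha c hc hac h, hinj c hc d hd hcd h, hinj a ha d hd had h]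
  · intro _ a ha k hk hak
    simp only [Set.mem_insert_iff, Set.mem_singleton_iff] at ha
    rcases ha with rfl | rfl | rfl | rfl
    · have h2 : 2 ∣ 2 ^ k := dvd_pow_self 2 hk
      omega
    · exact not_dvd_of_odd (k := k) (by rintro rfl; omega) hb (n := 2 * m + 1) ⟨m, rfl⟩
        (by rw [← hak]) hbd
    · exact hx5 (eq_five (m := m) hx hk hak (by rw [← mul_eq m]; exact hxd.mul_left _))
    · exact hy5 (eq_five (m := m) hy hk hak (by rw [← mul_eq m]; exact hyd.mul_right _))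

end Cfsg.Agent.H381.SzNonsol
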