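import Cfsg.Agent.H381.SzCore

/-!
# One Suzuki factor
-/

set_option autoImplicit false
set_option linter.unusedSectionVars false

namespace Cfsg.Agent.H381.SzOne

open Subgroup
open scoped commutatorElement
open Cfsg (piCoreOf fittingOf IsPiHallOf)
open Cfsg.Agent.H381.Tools
open Cfsg.Agent.H381.Lucido
open Cfsg.Agent.H381.Cover
open Cfsg.Agent.H381.SzCore
open Cfsg.Agent.H381.Criterion (commutator_zpowers_le normalizer_le_normalizer_centralizer
  orderOf_prime_pow orderOf_conj exists_unique_of_fpf mem_normalizer_unique mem_centralizer_bot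
  le_normalizer_inf)
open Cfsg.Agent.OddOrderLocal.PiCoreOf (piCoreOf_le le_normalizer_piCoreOf)
open Cfsg.Agent.OddOrderLocal.FitCores (isPGroup_piCoreOf core_le_centralizer_core)
open Cfsg.Agent.SignalizersComponents.LocalGlobal (NoFixed)

universe u v w

variable {ty v : ℕ → ℕ} {E : Type u} [Group E] [Finite E] {T : Type v} [Group T] {L : Type w}
  [Group L]

/-- if the elements of order `r` of a Hall `{r}`-subgroup of the kernel are central, all are -/
theorem cov_of_hall {f : E →* T} {ι : L →* T} (hS : Group.IsSolvable f.ker) {r : ℕ} (hr : r.Prime)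
    {R : Subgroup E} (hR : IsPiHallOf {r} R f.ker)
    (h : ∀ x ∈ R, orderOf x = r → Cov f ι (centralizer {x})) {z : E} (hz : z ∈ f.ker)
    (hzr : orderOf z = r) : Cov f ι (centralizer {z}) := by
  obtain ⟨m, hm, hmR⟩ := Cfsg.Agent.OddOrderLocal.HallPi.exists_conj_le_of_isPiHallOf hS hR
    (X := zpowers z) (by rwa [zpowers_le]) (by
      intro t ht htd
      rw [Nat.card_zpowers, hzr] at htd
      exact (Nat.prime_dvd_prime_iff_eq ht hr).mp htd)
  have h1 : m * z * m⁻¹ ∈ R := hmR ⟨z, mem_zpowers z, rfl⟩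
  have h2 := h _ h1 (by rw [orderOf_conj, hzr])
  intro y hy
  obtain ⟨g, hg, rfl⟩ := h2 hy
  rw [SetLike.mem_coe, mem_cent_iff] at hg
  refine ⟨m⁻¹ * g * m, ?_, ?_⟩
  · rw [SetLike.mem_coe, mem_cent_iff]
    show z * (m⁻¹ * g * m) = m⁻¹ * g * m * z
    calc z * (m⁻¹ * g * m) = m⁻¹ * ((m * z * m⁻¹) * g) * m := by group
      _ = m⁻¹ * (g * (m * z * m⁻¹)) * m := by rw [hg.eq]
      _ = m⁻¹ * g * m * z := by group
  · rw [map_mul, map_mul, map_inv, MonoidHom.mem_ker.mp hm, inv_one, one_mul, mul_one]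

/-- `R` has a unique subgroup of order `r` -/
def Uniq (r : ℕ) (R : Subgroup E) : Prop := ∃ z ∈ R, orderOf z = r ∧ ∀ y ∈ R, orderOf y = r → y ∈ zpowers z

theorem commutator_mem_centralizer_zpowers {x a b : E} (ha : a ∈ normalizer (zpowers x : Set E))
    (hb : b ∈ normalizer (zpowers x : Set E)) : ⁅a, b⁆ ∈ centralizer (zpowers x : Set E) := by
  have key : ∀ c ∈ normalizer (zpowers x : Set E), ∃ k : ℤ, ∀ n : ℤ, c * x ^ n * c⁻¹ = x ^ (k * n) := by
    intro c hc
    obtain ⟨k, hk⟩ := mem_zpowers_iff.mp ((mem_normalizer_iff.mp hc x).mp (mem_zpowers x))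
    refine ⟨k, fun n => ?_⟩
    rw [zpow_mul, hk, conj_zpow]
  obtain ⟨k, hk⟩ := key a ha
  obtain ⟨l, hl⟩ := key b hb
  rw [mem_centralizer_iff]
  intro y hy
  have hy' : (b * a)⁻¹ * y * (b * a) ∈ zpowers x := by
    have := (mem_normalizer_iff.mp (inv_mem (mul_mem hb ha)) y).mp hy
    rwa [inv_inv] at this
  obtain ⟨n, hn⟩ := mem_zpowers_iff.mp hy'
  have e1 : (a * b) * x ^ n * (a * b)⁻¹ = x ^ (k * (l * n)) := by
    calc (a * b) * x ^ n * (a * b)⁻¹ = a * (b * x ^ n * b⁻¹) * a⁻¹ := by group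
      _ = _ := by rw [hl, hk]
  have e2 : (b * a) * x ^ n * (b * a)⁻¹ = x ^ (l * (k * n)) := by
    calc (b * a) * x ^ n * (b * a)⁻¹ = b * (a * x ^ n * a⁻¹) * b⁻¹ := by group
      _ = _ := by rw [hk, hl]
  have e3 : (b * a) * x ^ n * (b * a)⁻¹ = y := by rw [hn]; group
  have e4 : (a * b) * x ^ n * (a * b)⁻¹ = y := by
    rw [e1, ← e3, e2]
    congr 1
    ring
  have e5 : ⁅a, b⁆ * y * ⁅a, b⁆⁻¹ = y := by
    calc ⁅a, b⁆ * y * ⁅a, b⁆⁻¹ = (a * b) * ((b * a)⁻¹ * y * (b * a)) * (a * b)⁻¹ := by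
          rw [commutatorElement_def]; group
      _ = (a * b) * x ^ n * (a * b)⁻¹ := by rw [hn]
      _ = y := e4
  rw [mul_inv_eq_iff_eq_mul] at e5
  exact e5.symm

/-- a Hall `{r}`-subgroup of the kernel with a unique subgroup of order `r` -/
theorem cov_of_uniq (hL : LHyp0 ty L) {f : E →* T} {ι : L →* T}
    (hS : Group.IsSolvable f.ker) (hE : Cov f ι ⊤) {r : ℕ} (hr : r.Prime) {R : Subgroup E}
    (hR : IsPiHallOf {r} R f.ker) (hu : Uniq r R) {z : E} (hz : z ∈ f.ker) (hzr : orderOf z = r) :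
    Cov f ι (centralizer {z}) := by
  have := hL.simple
  obtain ⟨x, hx, hxr, hxu⟩ := hu
  have hM : Cov f ι (⊤ ⊓ normalizer (R : Set E)) := hE.frattini hS le_top
    (by rw [normalizer_eq_top]) le_rfl hR
  rw [top_inf_eq] at hM
  have hMx : normalizer (R : Set E) ≤ normalizer (zpowers x : Set E) := fun g hg =>
    mem_normalizer_unique hx hxr hxu hg
  have hcov : Cov f ι (normalizer (R : Set E) ⊓ centralizer (zpowers x : Set E)) := by
    obtain ⟨t, ht, ht2, ht3, A, w, a, hA, hw, hw4, ha, hwa⟩ := hL.four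
    obtain ⟨m₁, hm₁, hm₁'⟩ := hM.exists_lift (w ^ 2)
    obtain ⟨m₂, hm₂, hm₂'⟩ := hM.exists_lift a
    refine hM.of_ne_one (normalizer_inf_centralizer hMx) (g := ⁅m₁, m₂⁆) ?_ (x := ⁅w ^ 2, a⁆) ?_ ?_
    · refine mem_inf.mpr ⟨?_, commutator_mem_centralizer_zpowers (hMx hm₁) (hMx hm₂)⟩
      rw [commutatorElement_def]
      exact mul_mem (mul_mem (mul_mem hm₁ hm₂) (inv_mem hm₁)) (inv_mem hm₂)
    · rw [Ne, commutatorElement_eq_one_iff_commute]
      exact hwa
    · rw [map_commutatorElement, map_commutatorElement, hm₁', hm₂']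
  have hcx : Cov f ι (centralizer {x}) := by
    apply hcov.mono
    exact inf_le_right.trans (centralizer_le (by simp))
  apply cov_of_hall hS hr hR _ hz hzr
  intro y hy hyr
  apply hcx.mono
  obtain ⟨n, rfl⟩ := mem_zpowers_iff.mp (hxu y hy hyr)
  intro g hg
  rw [mem_cent_iff] at hg ⊢
  exact hg.zpow_left n

/-- `r`-groups without two independent elements -/
theorem hall_trans {K H R : Subgroup E} {π : Set ℕ} {r : ℕ} (hH : IsPiHallOf π H K) (hr : r ∈ π)
    (hR : IsPiHallOf {r} R H) : IsPiHallOf {r} R K :=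
  Cfsg.Agent.OddOrderLocal.HallPi.isPiHallOf_trans hR hH (by
    intro t _ ht
    rw [Set.mem_singleton_iff] at ht
    rw [ht]; exact hr)

theorem exists_hall {H : Subgroup E} (hH : Group.IsSolvable H) {r : ℕ} (hr : r.Prime) :
    ∃ R, IsPiHallOf {r} R H ∧ IsPGroup r R := by
  obtain ⟨R, hR⟩ := Cfsg.Agent.OddOrderLocal.HallPi.exists_isPiHallOf hH ({r} : Set ℕ)
  exact ⟨R, hR, (Cfsg.Agent.OddOrderLocal.PiCoreOf.isPi_singleton_iff hr R).mp hR.2.1⟩

/-- fixed point free action from nonadjacency -/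
theorem fpf_of_not_edge {K V : Subgroup E} {a b : ℕ} (ha : a.Prime) (h : ¬ Edge K a b)
    (hV : IsPGroup a V) (hVK : V ≤ K) {x : E} (hx : x ∈ K) (hxb : orderOf x = b) :
    V ⊓ centralizer {x} = ⊥ := by
  by_contra hne
  exact h (edge_of_fix ha hV hVK hx hxb hne)

/-- data of the final configuration -/
structure Core (ty v : ℕ → ℕ) (f : E →* T) (ι : L →* T) (p x y : ℕ) : Prop where
  hty : TyHyp ty
  W : WHyp ty v E
  hL : LHyp0 ty L
  hι : Function.Injective ι
  hS : Group.IsSolvable f.ker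
  hE : Cov f ι ⊤
  pp : p.Prime
  xp : x.Prime
  yp : y.Prime
  px : ty p ≠ ty x
  py : ty p ≠ ty y
  xy : ty x ≠ ty y
  x0 : ty x ≠ 0
  y0 : ty y ≠ 0
  pK : p ∣ Nat.card f.ker
  xK : x ∣ Nat.card f.ker
  yK : y ∣ Nat.card f.ker
  epx : ¬ Edge f.ker p x
  epy : ¬ Edge f.ker p y
  ux : ∀ R : Subgroup E, IsPiHallOf {x} R f.ker → ¬ Uniq x R
  uy : ∀ R : Subgroup E, IsPiHallOf {y} R f.ker → ¬ Uniq y R
  cx : ∀ z ∈ f.ker, orderOf z = x → Cov f ι (centralizer {z}) →
    ¬ y ∣ Nat.card (centralizer {z} ⊓ f.ker : Subgroup E)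
  cy : ∀ z ∈ f.ker, orderOf z = y → Cov f ι (centralizer {z}) →
    ¬ x ∣ Nat.card (centralizer {z} ⊓ f.ker : Subgroup E)

namespace Core

variable {f : E →* T} {ι : L →* T} {p x y : ℕ}

theorem swap (C : Core ty v f ι p x y) : Core ty v f ι p y x :=
  ⟨C.hty, C.W, C.hL, C.hι, C.hS, C.hE, C.pp, C.yp, C.xp, C.py, C.px, C.xy.symm, C.y0, C.x0, C.pK,
    C.yK, C.xK, C.epy, C.epx, C.uy, C.ux, C.cy, C.cx⟩

/-- `O_x(H)` is the only nontrivial core -/
theorem false_one (C : Core ty v f ι p x y) {H : Subgroup E} (hH : IsPiHallOf {p, x, y} H f.ker)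
    (hp : piCoreOf {p} H = ⊥) (hy : piCoreOf {y} H = ⊥) : False := by
  have hS := C.hS
  have hne_px : p ≠ x := fun h => C.px (by rw [h])
  have hne_py : p ≠ y := fun h => C.py (by rw [h])
  have hne_xy : x ≠ y := fun h => C.xy (by rw [h])
  have hHK : H ≤ f.ker := hH.1
  have hHs : Group.IsSolvable H :=
    Group.isSolvable_of_isSolvable_injective (f := Subgroup.inclusion hHK)
      (Subgroup.inclusion_injective _)
  set X := piCoreOf {x} H with hX
  have hXx : IsPGroup x X := isPGroup_piCoreOf C.xp H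
  have hXH : X ≤ H := piCoreOf_le _ _
  have hHX : H ≤ normalizer (X : Set E) := le_normalizer_piCoreOf _ _
  have hHpi : ∀ t : ℕ, t.Prime → t ∣ Nat.card H → t = p ∨ t = x ∨ t = y := by
    intro t ht htd
    have := hH.2.1 t ht htd
    simpa using this
  have hc : ∀ g ∈ H, g ∈ centralizer (X : Set E) → g ∈ X := by
    intro g hg hgc
    have h1 : g ∈ fittingOf H := by
      apply mem_fitting' hHs hg
      intro t ht htd
      rcases hHpi t ht htd with rfl | rfl | rfl
      · rw [hp]; exact mem_centralizer_bot g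
      · exact hgc
      · rw [hy]; exact mem_centralizer_bot g
    refine (fitting_le (K := X) ?_) h1
    intro t ht htd
    rcases hHpi t ht htd with rfl | rfl | rfl
    · rw [hp]; exact bot_le
    · exact le_rfl
    · rw [hy]; exact bot_le
  -- a Hall `{p, y}`-subgroup
  obtain ⟨B, hB⟩ := Cfsg.Agent.OddOrderLocal.HallPi.exists_isPiHallOf hHs ({p, y} : Set ℕ)
  have hBH : B ≤ H := hB.1
  have hBK : B ≤ f.ker := hBH.trans hHK
  have hBs : Group.IsSolvable B :=
    Group.isSolvable_of_isSolvable_injective (f := Subgroup.inclusion hBH)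
      (Subgroup.inclusion_injective _)
  have hBpi : ∀ t : ℕ, t.Prime → t ∣ Nat.card B → t = p ∨ t = y := by
    intro t ht htd
    have := hB.2.1 t ht htd
    simpa using this
  have hpH : p ∣ Nat.card H :=
    Cfsg.Agent.OddOrderLocal.HallPi.prime_dvd_card hH C.pp (by simp) C.pK
  have hpB : p ∣ Nat.card B :=
    Cfsg.Agent.OddOrderLocal.HallPi.prime_dvd_card hB C.pp (by simp) hpH
  obtain ⟨h, hh, hhp⟩ := exists_mem_of_dvd C.pp hpB
  by_cases hY1 : piCoreOf {y} B = ⊥
  · -- Sylow `y`-subgroups act fixed point freely on `O_p(B)`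
    by_cases hP1 : piCoreOf {p} B = ⊥
    · have h1 : h ∈ fittingOf B := by
        apply mem_fitting' hBs hh
        intro t ht htd
        rcases hBpi t ht htd with rfl | rfl
        · rw [hP1]; exact mem_centralizer_bot h
        · rw [hY1]; exact mem_centralizer_bot h
      have h2 : fittingOf B ≤ ⊥ := by
        apply fitting_le
        intro t ht htd
        rcases hBpi t ht htd with rfl | rfl
        · rw [hP1]
        · rw [hY1]
      have h3 := h2 h1
      rw [mem_bot] at h3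
      rw [h3, orderOf_one] at hhp
      exact C.pp.one_lt.ne hhp
    · obtain ⟨Y, hY, hYy⟩ := exists_hall hBs C.yp
      have hPp := isPGroup_piCoreOf C.pp B
      have hYB : Y ≤ B := hY.1
      have hYHall : IsPiHallOf {y} Y f.ker := hall_trans hH (by simp) (hall_trans hB (by simp) hY)
      apply C.uy Y hYHall
      refine exists_unique_of_fpf C.yp hYy ?_ (not_dvd_card C.pp C.yp hne_py.symm hPp) hP1
        (hYB.trans (le_normalizer_piCoreOf _ _)) ?_
      · rintro rfl
        have := Cfsg.Agent.OddOrderLocal.HallPi.prime_dvd_card hYHall C.yp (by simp) C.yK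
        rw [card_bot, Nat.dvd_one] at this
        exact C.yp.one_lt.ne' this
      · intro a ha hay
        exact fpf_of_not_edge C.pp C.epy hPp ((piCoreOf_le _ _).trans hBK) (hBK (hYB ha)) hay
  · have hYy := isPGroup_piCoreOf C.yp B
    have hYK : piCoreOf {y} B ≤ f.ker := (piCoreOf_le _ _).trans hBK
    have hpy' : ¬ Edge f.ker y p := fun h => C.epy h.symm
    have hpx' : ¬ Edge f.ker x p := fun h => C.epx h.symm
    have h1 := frob_prime C.yp C.xp C.pp hne_xy.symm hne_px hYy hXx hY1 hhp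
      (le_normalizer_piCoreOf {y} B hh) (hHX (hBH hh)) (((piCoreOf_le _ _).trans hBH).trans hHX)
      (fpf_of_not_edge C.yp hpy' hYy hYK (hBK hh) hhp)
      (fpf_of_not_edge C.xp hpx' hXx (hXH.trans hHK) (hBK hh) hhp)
    obtain ⟨a, ha, hay⟩ := exists_mem_of_ne_bot C.yp hYy hY1
    exact not_dvd_card C.xp C.yp hne_xy.symm hXx
      (dvd_card_of_mem (hc a (hBH (piCoreOf_le _ _ ha)) (h1 ha)) hay)

theorem false (C : Core ty v f ι p x y) : False := by
  have hS := C.hS
  have hne_px : p ≠ x := fun h => C.px (by rw [h])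
  have hne_py : p ≠ y := fun h => C.py (by rw [h])
  have hne_xy : x ≠ y := fun h => C.xy (by rw [h])
  obtain ⟨H, hH⟩ := Cfsg.Agent.OddOrderLocal.HallPi.exists_isPiHallOf hS ({p, x, y} : Set ℕ)
  have hHK : H ≤ f.ker := hH.1
  have hHs : Group.IsSolvable H :=
    Group.isSolvable_of_isSolvable_injective (f := Subgroup.inclusion hHK)
      (Subgroup.inclusion_injective _)
  have hHpi : ∀ t : ℕ, t.Prime → t ∣ Nat.card H → t = p ∨ t = x ∨ t = y := by
    intro t ht htd
    have := hH.2.1 t ht htd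
    simpa using this
  have hM : Cov f ι (⊤ ⊓ normalizer (H : Set E)) := C.hE.frattini hS le_top
    (by rw [normalizer_eq_top]) le_rfl hH
  rw [top_inf_eq] at hM
  by_cases hp : piCoreOf {p} H = ⊥
  swap
  · obtain ⟨X, hX, hXx⟩ := exists_hall hHs C.xp
    have hPp := isPGroup_piCoreOf C.pp H
    have hXH : X ≤ H := hX.1
    have hXHall : IsPiHallOf {x} X f.ker := hall_trans hH (by simp) hX
    apply C.ux X hXHall
    refine exists_unique_of_fpf C.xp hXx ?_ (not_dvd_card C.pp C.xp hne_px.symm hPp) hp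
      (hXH.trans (le_normalizer_piCoreOf _ _)) ?_
    · rintro rfl
      have := Cfsg.Agent.OddOrderLocal.HallPi.prime_dvd_card hXHall C.xp (by simp) C.xK
      rw [card_bot, Nat.dvd_one] at this
      exact C.xp.one_lt.ne' this
    · intro a ha hax
      exact fpf_of_not_edge C.pp C.epx hPp ((piCoreOf_le _ _).trans hHK) (hHK (hXH ha)) hax
  by_cases hx : piCoreOf {x} H = ⊥
  · exact C.swap.false_one (by
      rw [show ({p, y, x} : Set ℕ) = {p, x, y} by
        ext t; simp only [Set.mem_insert_iff, Set.mem_singleton_iff]; tauto]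
      exact hH) hp hx
  by_cases hy : piCoreOf {y} H = ⊥
  · exact C.false_one hH hp hy
  -- both cores are nontrivial
  have hXx := isPGroup_piCoreOf C.xp H
  have hYy := isPGroup_piCoreOf C.yp H
  have hMc : ∀ t : ℕ, normalizer (H : Set E) ≤ normalizer ((piCoreOf {t} H : Subgroup E) : Set E) := by
    intro t
    exact Cfsg.Agent.OddOrderLocal.PiCoreOf.normalizer_le_normalizer_piCoreOf _ _
  have hcomm : ∀ a ∈ piCoreOf {x} H, ∀ b ∈ piCoreOf {y} H, Commute a b := fun a ha b hb =>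
    ((mem_centralizer_iff.mp (core_le_centralizer_core C.xp C.yp hne_xy H ha) b hb).symm :
      a * b = b * a)
  obtain ⟨a, ha, hax⟩ := exists_mem_of_ne_bot C.xp hXx hx
  obtain ⟨b, hb, hby⟩ := exists_mem_of_ne_bot C.yp hYy hy
  have hcX : ¬ Cov f ι (normalizer (H : Set E) ⊓ centralizer ((piCoreOf {x} H : Subgroup E) : Set E)) := by
    intro hc
    apply C.cx a (hHK (piCoreOf_le _ _ ha)) hax
    · exact hc.mono (inf_le_right.trans (centralizer_le (by simpa using ha)))
    · exact dvd_card_of_mem (mem_inf.mpr ⟨mem_cent_iff.mpr (hcomm a ha b hb), hHK (piCoreOf_le _ _ hb)⟩) hby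
  have hcY : ¬ Cov f ι (normalizer (H : Set E) ⊓ centralizer ((piCoreOf {y} H : Subgroup E) : Set E)) := by
    intro hc
    apply C.cy b (hHK (piCoreOf_le _ _ hb)) hby
    · exact hc.mono (inf_le_right.trans (centralizer_le (by simpa using hb)))
    · exact dvd_card_of_mem (mem_inf.mpr ⟨mem_cent_iff.mpr (hcomm a ha b hb).symm,
        hHK (piCoreOf_le _ _ ha)⟩) hax
  obtain ⟨i, hi, hi2, l, hl, hil⟩ := exists_involution C.W C.hL C.hι hM
  have h1 := fix_involution C.hL hM (hMc x) hcX C.hι hi hi2 hl hil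
  have h2 := fix_involution C.hL hM (hMc y) hcY C.hι hi hi2 hl hil
  obtain ⟨a', ha', hax'⟩ := exists_mem_of_ne_bot C.xp (hXx.to_le inf_le_left) h1
  obtain ⟨b', hb', hby'⟩ := exists_mem_of_ne_bot C.yp (hYy.to_le inf_le_left) h2
  rw [mem_fix] at ha' hb'
  exact C.W.no3 C.xp C.yp Nat.prime_two C.xy (by rw [C.hty.two]; exact C.y0)
    (by rw [C.hty.two]; exact C.x0) hax' hby' hi2 (hcomm a' ha'.1 b' hb'.1) ha'.2.symm hb'.2.symm

end Core

/-- **One Suzuki factor is impossible** if at least three of the four types occur in the kernel. -/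
theorem one_false (hty : TyHyp ty) (W : WHyp ty v E) (hL : LHyp ty v L)
    (hbL : ∀ p : ℕ, p.Prime → ty p = 1 → p ∣ Nat.card E → p ∣ Nat.card L) {f : E →* T} {ι : L →* T}
    (hι : Function.Injective ι) (hS : Group.IsSolvable f.ker) (hE : Cov f ι ⊤) {b x y : ℕ}
    (hb : b.Prime) (hx : x.Prime) (hy : y.Prime) (hb1 : ty b = 1) (hx2 : ty x = 2) (hy3 : ty y = 3)
    (h2b : 2 ∣ Nat.card f.ker ∨ b ∣ Nat.card f.ker)
    (h2x : 2 ∣ Nat.card f.ker ∨ x ∣ Nat.card f.ker)
    (h2y : 2 ∣ Nat.card f.ker ∨ y ∣ Nat.card f.ker)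
    (hbx : b ∣ Nat.card f.ker ∨ x ∣ Nat.card f.ker)
    (hby : b ∣ Nat.card f.ker ∨ y ∣ Nat.card f.ker)
    (hxy : x ∣ Nat.card f.ker ∨ y ∣ Nat.card f.ker) : False := by
  -- central primes
  have cen : ∀ p : ℕ, p.Prime → (ty p = 0 ∨ ty p = 1) → ∀ z ∈ f.ker, orderOf z = p →
      Cov f ι (centralizer {z}) := by
    intro p hp hp01 z hz hzp
    obtain ⟨P, hP, hPp⟩ := exists_hall hS hp
    apply cov_of_hall hS hp hP _ hz hzp
    intro w hw hwp
    have hM : Cov f ι (⊤ ⊓ normalizer (P : Set E)) := hE.frattini hS le_top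
      (by rw [normalizer_eq_top]) le_rfl hP
    rw [top_inf_eq] at hM
    have h1 : Cov f ι (normalizer (P : Set E) ⊓ centralizer (P : Set E)) := by
      rcases hp01 with h0 | h1
      · have h2 := hty.eq_two p hp h0
        rw [h2] at hPp
        exact two_central W hL.to0 hS hM le_rfl hPp
      · exact b_central hty W hL hS hp h1 (hbL p hp h1 (hwp ▸ orderOf_dvd_natCard w)) hM le_rfl hPp
    exact h1.mono (inf_le_right.trans (centralizer_le (by simpa using hw)))
  have iso : ∀ z ∈ f.ker, ∀ p : ℕ, p.Prime → orderOf z = p → Cov f ι (centralizer {z}) →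
      ∀ r : ℕ, r.Prime → ty r ≠ ty p → ¬ r ∣ Nat.card (centralizer {z} ⊓ f.ker : Subgroup E) := by
    intro z _ p hp hzp hcov r hr hrp hd
    exact hrp (isolated hty W hL hbL hι hS hp hr hzp hcov hd)
  have noedge : ∀ p r : ℕ, p.Prime → r.Prime → ty r ≠ ty p → (∀ z ∈ f.ker, orderOf z = p →
      Cov f ι (centralizer {z})) → ¬ Edge f.ker p r := by
    intro p r hp hr hrp hc
    rintro ⟨z, hz, w, hw, hzw, hzp, hwr⟩
    exact iso z hz p hp hzp (hc z hz hzp) r hr hrp
      (dvd_card_of_mem (mem_inf.mpr ⟨mem_cent_iff.mpr hzw, hw⟩) hwr)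
  have core : ∀ p : ℕ, p.Prime → (ty p = 0 ∨ ty p = 1) → p ∣ Nat.card f.ker →
      x ∣ Nat.card f.ker → y ∣ Nat.card f.ker → False := by
    intro p hp hp01 hpK hxK hyK
    have hpx : ty p ≠ ty x := by rw [hx2]; omega
    have hpy : ty p ≠ ty y := by rw [hy3]; omega
    have hxy' : ty x ≠ ty y := by rw [hx2, hy3]; norm_num
    have epx := noedge p x hp hx hpx.symm (cen p hp hp01)
    have epy := noedge p y hp hy hpy.symm (cen p hp hp01)
    have exy : Edge f.ker x y := by
      rcases lucido hS hp hx hy (fun h => hpx (by rw [h])) (fun h => hpy (by rw [h]))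
        (fun h => hxy' (by rw [h])) hpK hxK hyK with h | h | h
      exacts [absurd h epx, absurd h epy, h]
    have C : Core ty v f ι p x y := by
      refine ⟨hty, W, hL.to0, hι, hS, hE, hp, hx, hy, hpx, hpy, hxy', by rw [hx2]; norm_num,
        by rw [hy3]; norm_num, hpK, hxK, hyK, epx, epy, ?_, ?_, ?_, ?_⟩
      · intro R hR hu
        exact noedge x y hx hy hxy'.symm (fun z hz hzx => cov_of_uniq hL.to0 hS hE hx hR hu hz hzx) exy
      · intro R hR hu
        exact noedge y x hy hx hxy' (fun z hz hzx => cov_of_uniq hL.to0 hS hE hy hR hu hz hzx) exy.symm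
      · intro z hz hzx hc
        exact iso z hz x hx hzx hc y hy hxy'.symm
      · intro z hz hzx hc
        exact iso z hz y hy hzx hc x hx hxy'
    exact C.false
  have two2 : Nat.Prime 2 := Nat.prime_two
  have t2 := hty.two
  by_cases h2 : 2 ∣ Nat.card f.ker
  · by_cases hb' : b ∣ Nat.card f.ker
    · -- both `2` and `b` are central
      have key : ∀ z : ℕ, z.Prime → ty z ≠ 0 → ty z ≠ 1 → z ∣ Nat.card f.ker → False := by
        intro z hz h0 h1 hzK
        rcases lucido hS two2 hb hz (fun h => by rw [← h, t2] at hb1; omega)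
          (fun h => h0 (by rw [← h, t2])) (fun h => h1 (by rw [← h, hb1])) h2 hb' hzK with h | h | h
        · exact noedge 2 b two2 hb (by rw [t2, hb1]; norm_num) (cen 2 two2 (Or.inl t2)) h
        · exact noedge 2 z two2 hz (by rw [t2]; exact h0) (cen 2 two2 (Or.inl t2)) h
        · exact noedge b z hb hz (by rw [hb1]; exact h1) (cen b hb (Or.inr hb1)) h
      rcases hxy with h | h
      · exact key x hx (by rw [hx2]; norm_num) (by rw [hx2]; norm_num) h
      · exact key y hy (by rw [hy3]; norm_num) (by rw [hy3]; norm_num) h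
    · exact core 2 two2 (Or.inl t2) h2 (hbx.resolve_left hb') (hby.resolve_left hb')
  · exact core b hb (Or.inr hb1) (h2b.resolve_left h2) (h2x.resolve_left h2) (h2y.resolve_left h2)

end Cfsg.Agent.H381.SzOne
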