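import Cfsg.Agent.H381.SzTwoGen

/-!
# Outer automorphisms
-/

set_option autoImplicit false
set_option linter.unusedSectionVars false

namespace Cfsg.Agent.H381.SzOuter

open Subgroup
open Cfsg (IsComponent layer fittingSubgroup generalizedFittingSubgroup Out Inn)
open Cfsg.Agent.H98.SzPartition (torusOrders mem_torusOrders_iff odd_of_mem one_lt_of_mem eq_of_prime_dvd
  sylow_or_torus)
open Cfsg.Agent.LieRecognition.SzMatrix (good)
open Cfsg.Agent.ThreePrime.SzRel (ofGood)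
open Cfsg.Agent.H70.SzOut (fieldAut fieldAut_u fieldAut_d fieldAut_w exists_fix eq_of_fix exists_sylow)
open Cfsg.Agent.H381.SzSpec
open Cfsg.Agent.H381.SzComp
open Cfsg.Agent.H381.SzCore
open Cfsg.Agent.H381.SzRed
open Cfsg.Agent.H381.SzPair
open Cfsg.Agent.H381.SzMain
open Cfsg.Agent.H381.Tools

variable {F : Type*} [Field F] [Fintype F] {m : ℕ}

/-- every automorphism is inner times field -/
theorem field_form (hm : 1 ≤ m) (hF : Fintype.card F = 2 ^ (2 * m + 1)) (ψ : MulAut (LS F m)) :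
    ∃ g : LS F m, ∃ σ : F ≃+* F, MulAut.conj g * ψ = fieldAut (good hF) σ := by
  have h8 : 8 ≤ Nat.card F := by
    rw [Nat.card_eq_fintype_card, hF]
    exact Cfsg.Agent.ThreePrime.SzRel.Rel.eight_le hm
  obtain ⟨S, hS⟩ := exists_sylow hm hF
  obtain ⟨g, hg⟩ := exists_fix (ofGood (good hF)) S hS ψ
  obtain ⟨σ, k, hσ⟩ := eq_of_fix h8 (good hF) hg
  refine ⟨((good hF).d k)⁻¹ * g, σ, ?_⟩
  rw [map_mul, mul_assoc, hσ, map_inv, inv_mul_cancel_left]

theorem card_aut (hm : 1 ≤ m) (hF : Fintype.card F = 2 ^ (2 * m + 1)) :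
    Nat.card (F ≃+* F) = 2 * m + 1 := by
  have : Fact (Nat.Prime 2) := ⟨Nat.prime_two⟩
  exact Cfsg.Agent.Lib.FieldAutCard.card_ringAut (by omega) hF

/-- fixed elements of a field automorphism -/
theorem exists_fixed_unit (hm : 1 ≤ m) (hF : Fintype.card F = 2 ^ (2 * m + 1)) {τ : F ≃+* F} {f : ℕ}
    (hf : f.Prime) (hτ : τ ^ f = 1) (hn : 2 * m + 1 ≠ f) : ∃ k : Fˣ, k ≠ 1 ∧ τ (k : F) = k := by
  by_contra hcon
  push Not at hcon
  have hfin : Finite (F ≃+* F) := Nat.finite_of_card_ne_zero (by rw [card_aut hm hF]; omega)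
  have : Fintype (zpowers τ) := Fintype.ofFinite _
  let S := FixedPoints.subfield (zpowers τ) F
  have hS : ∀ x : F, x ∈ S → x = 0 ∨ x = 1 := by
    intro x hx
    by_cases h0 : x = 0
    · exact Or.inl h0
    right
    by_contra h1
    apply hcon (Units.mk0 x h0) (fun h => h1 (congrArg Units.val h))
    exact hx ⟨τ, mem_zpowers τ⟩
  have h1 : Module.finrank S F = Fintype.card (zpowers τ) := FixedPoints.finrank_eq_card (zpowers τ) F
  have h2 : Nat.card F = Nat.card S ^ Module.finrank S F := Module.natCard_eq_pow_finrank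
  have h3 : Nat.card S = 2 := by
    have : Finite S := inferInstance
    rw [Nat.card_eq_two_iff]
    refine ⟨0, 1, zero_ne_one, ?_⟩
    ext x
    simp only [Set.mem_insert_iff, Set.mem_singleton_iff, Set.mem_univ, iff_true]
    rcases hS x x.2 with h | h
    · exact Or.inl (Subtype.ext h)
    · exact Or.inr (Subtype.ext h)
  rw [h3, h1, Nat.card_eq_fintype_card, hF] at h2
  have h4 := Nat.pow_right_injective (le_refl 2) h2
  have h5 : Fintype.card (zpowers τ) = orderOf τ := by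
    rw [← Nat.card_eq_fintype_card, Nat.card_zpowers]
  have h6 : orderOf τ ∣ f := orderOf_dvd_of_pow_eq_one hτ
  rcases (Nat.dvd_prime hf).mp h6 with h | h
  · rw [h5, h] at h4; omega
  · rw [h5, h] at h4; exact hn h4

/-- a prime exponent different from `5` does not divide the order of `Sz(q)` -/
theorem ty_prime (hm : 1 ≤ m) (hm2 : m ≠ 2) (hp : (2 * m + 1).Prime) : 4 ≤ ty m (2 * m + 1) := by
  have hpf : Fact (2 * m + 1).Prime := ⟨hp⟩
  have e1 : (2 : ZMod (2 * m + 1)) ^ (2 * m + 1) = 2 := ZMod.pow_card 2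
  have h1 : ¬ (2 * m + 1) ∣ 2 ^ (2 * m + 1) - 1 := by
    intro h
    have h3 : 1 ≤ 2 ^ (2 * m + 1) := Nat.one_le_two_pow
    have : ((2 ^ (2 * m + 1) - 1 : ℕ) : ZMod (2 * m + 1)) = 0 := (ZMod.natCast_eq_zero_iff _ _).mpr h
    rw [Nat.cast_sub h3, Nat.cast_pow, Nat.cast_ofNat, e1] at this
    have h4 : (1 : ZMod (2 * m + 1)) = 0 := by
      rw [← this]; push_cast; ring
    exact one_ne_zero h4
  have h2 : ¬ (2 * m + 1) ∣ 2 ^ (2 * (2 * m + 1)) + 1 := by
    intro h
    have : ((2 ^ (2 * (2 * m + 1)) + 1 : ℕ) : ZMod (2 * m + 1)) = 0 :=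
      (ZMod.natCast_eq_zero_iff _ _).mpr h
    rw [mul_comm 2 (2 * m + 1), pow_mul, Nat.cast_add, Nat.cast_pow, Nat.cast_pow, Nat.cast_ofNat,
      e1] at this
    have h4 : ((5 : ℕ) : ZMod (2 * m + 1)) = 0 := by
      rw [← this]; push_cast; ring
    rw [ZMod.natCast_eq_zero_iff] at h4
    have h5 := (Nat.prime_dvd_prime_iff_eq hp (by norm_num : Nat.Prime 5)).mp h4
    omega
  rw [← mul_eq m] at h2
  unfold ty
  rw [if_neg (by omega), if_neg h1, if_neg (fun h => h2 (h.mul_left _)),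
    if_neg (fun h => h2 (h.mul_right _))]

section act

variable {Q : Type*} [Group Q] {K : Subgroup Q}

/-- `x` acts on `K` as the field automorphism `σ` -/
def Act (hF : Fintype.card F = 2 ^ (2 * m + 1)) (e : K ≃* LS F m) (x : Q) (σ : F ≃+* F) : Prop :=
  ∀ y : LS F m, x * e.symm y * x⁻¹ = e.symm (fieldAut (good hF) σ y)

variable {hF : Fintype.card F = 2 ^ (2 * m + 1)} {e : K ≃* LS F m}

theorem Act.mul {x x' : Q} {σ σ' : F ≃+* F} (h : Act hF e x σ) (h' : Act hF e x' σ') :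
    Act hF e (x * x') (σ * σ') := by
  intro y
  rw [map_mul, MulAut.mul_apply, ← h, ← h', mul_inv_rev]
  simp only [mul_assoc]

theorem Act.pow {x : Q} {σ : F ≃+* F} (h : Act hF e x σ) (n : ℕ) : Act hF e (x ^ n) (σ ^ n) := by
  induction n with
  | zero =>
    intro y
    rw [pow_zero, pow_zero, map_one, one_mul, inv_one, mul_one]
    rfl
  | succ n ih =>
    rw [pow_succ, pow_succ]
    exact ih.mul h

theorem act_one {x : Q} (h : x ∈ centralizer (K : Set Q)) : Act hF e x 1 := by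
  intro y
  rw [map_one, ← mem_centralizer_iff.mp h _ (e.symm y).2, mul_inv_cancel_right]
  rfl

theorem Act.mem_centralizer {x : Q} (h : Act hF e x 1) : x ∈ centralizer (K : Set Q) := by
  rw [mem_centralizer_iff]
  intro y hy
  have h1 := h (e ⟨y, hy⟩)
  rw [map_one] at h1
  have h2 : x * y * x⁻¹ = y := by
    have h3 : ((e.symm (e ⟨y, hy⟩) : K) : Q) = y := by rw [e.symm_apply_apply]
    have h4 : ((e.symm ((1 : MulAut (LS F m)) (e ⟨y, hy⟩)) : K) : Q) = y := h3
    rw [h3, h4] at h1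
    exact h1
  rw [mul_inv_eq_iff_eq_mul] at h2
  exact h2.symm

theorem Act.eq_one {x : Q} {σ : F ≃+* F} (h : Act hF e x σ) (hx : x ∈ centralizer (K : Set Q)) :
    σ = 1 := by
  apply Cfsg.Agent.H70.SzOut.eq_one_of_conj (good hF) (g := 1)
  ext1 y
  rw [map_one]
  have h1 := h y
  rw [← mem_centralizer_iff.mp hx _ (e.symm y).2, mul_inv_cancel_right] at h1
  have h2 := e.symm.injective (Subtype.ext h1)
  exact h2.symm

theorem exists_act (hm : 1 ≤ m) (hF : Fintype.card F = 2 ^ (2 * m + 1)) (e : K ≃* LS F m) {x : Q}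
    (hx : x ∈ normalizer (K : Set Q)) : ∃ k ∈ K, ∃ σ : F ≃+* F, Act hF e (k * x) σ := by
  obtain ⟨g, σ, hg⟩ := field_form hm hF (MulAut.congr e (K.normalizerMonoidHom ⟨x, hx⟩))
  refine ⟨e.symm g, (e.symm g).2, σ, ?_⟩
  intro y
  rw [← hg, MulAut.mul_apply, MulAut.conj_apply, map_mul, map_mul, map_inv]
  have h1 : e.symm (MulAut.congr e (K.normalizerMonoidHom ⟨x, hx⟩) y) =
      K.normalizerMonoidHom ⟨x, hx⟩ (e.symm y) := by
    show e.symm (e (K.normalizerMonoidHom ⟨x, hx⟩ (e.symm y))) = _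
    rw [e.symm_apply_apply]
  rw [h1]
  show (e.symm g : Q) * x * e.symm y * ((e.symm g : Q) * x)⁻¹ =
    (e.symm g : Q) * (x * e.symm y * x⁻¹) * (e.symm g : Q)⁻¹
  group

/-- fixed elements commute -/
theorem Act.commute {x : Q} {σ : F ≃+* F} (h : Act hF e x σ) {y : LS F m}
    (hy : fieldAut (good hF) σ y = y) : Commute x (e.symm y : Q) := by
  have h1 := h y
  rw [hy, mul_inv_eq_iff_eq_mul] at h1
  exact h1

end act

section pair

variable {Q : Type*} [Group Q] [Finite Q] {K₁ K₂ : Subgroup Q}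

/-- **No outer automorphisms** -/
theorem no_outer (hm : 1 ≤ m) (hm2 : m ≠ 2) (hF : Fintype.card F = 2 ^ (2 * m + 1)) (hQ : OrdLe F m Q)
    (hP : Pair K₁ K₂) (e₁ : K₁ ≃* LS F m) (e₂ : K₂ ≃* LS F m) {x : Q}
    (hx₁ : x ∈ normalizer (K₁ : Set Q)) (hx₂ : x ∈ normalizer (K₂ : Set Q)) :
    ∃ a ∈ K₁, ∃ b ∈ K₂, x = a * b := by
  obtain ⟨k₁, hk₁, σ₁, h₁⟩ := exists_act hm hF e₁ hx₁
  obtain ⟨k₂, hk₂, σ₂, h₂⟩ := exists_act hm hF e₂ hx₂
  have a₁ : Act hF e₁ (k₂ * (k₁ * x)) σ₁ := by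
    have := (act_one (hF := hF) (e := e₁) (hP.symm.mem_cent hk₂)).mul h₁
    rwa [one_mul] at this
  have a₂ : Act hF e₂ (k₂ * (k₁ * x)) σ₂ := by
    have := (act_one (hF := hF) (e := e₂) (hP.mem_cent hk₁)).mul h₂
    rw [one_mul] at this
    rwa [← mul_assoc, ← (hP.comm k₁ hk₁ k₂ hk₂).eq, mul_assoc]
  set x' := k₂ * (k₁ * x) with hx'
  by_cases hσ : (σ₁, σ₂) = (1 : (F ≃+* F) × (F ≃+* F))
  · have e1 : σ₁ = 1 := congrArg Prod.fst hσ
    have e2 : σ₂ = 1 := congrArg Prod.snd hσ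
    rw [e1] at a₁
    rw [e2] at a₂
    have h3 := hP.cent _ a₁.mem_centralizer a₂.mem_centralizer
    refine ⟨k₁⁻¹, inv_mem hk₁, k₂⁻¹, inv_mem hk₂, ?_⟩
    rw [hx', ← mul_assoc] at h3
    rw [← mul_inv_rev]
    exact (inv_eq_of_mul_eq_one_right h3).symm
  exfalso
  have hfin : Finite (F ≃+* F) := Nat.finite_of_card_ne_zero (by rw [card_aut hm hF]; omega)
  set s := orderOf (σ₁, σ₂) with hs
  have hs1 : s ≠ 1 := fun h => hσ (orderOf_eq_one_iff.mp h)
  obtain ⟨f, hf, hfs⟩ := Nat.exists_prime_and_dvd hs1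
  have hτ : orderOf ((σ₁, σ₂) ^ (s / f)) = f := orderOf_pow_orderOf_div (orderOf_pos _).ne' hfs
  set y := x' ^ (s / f) with hy
  set τ₁ := σ₁ ^ (s / f) with hτ₁
  set τ₂ := σ₂ ^ (s / f) with hτ₂
  have b₁ : Act hF e₁ y τ₁ := a₁.pow _
  have b₂ : Act hF e₂ y τ₂ := a₂.pow _
  have hpair : (σ₁, σ₂) ^ (s / f) = (τ₁, τ₂) := rfl
  rw [hpair] at hτ
  have hτf : (τ₁, τ₂) ^ f = 1 := by rw [← hτ]; exact pow_orderOf_eq_one _
  have hτf₁ : τ₁ ^ f = 1 := congrArg Prod.fst hτf
  have hτf₂ : τ₂ ^ f = 1 := congrArg Prod.snd hτf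
  have hyf : orderOf y = f := by
    have hff : Fact f.Prime := ⟨hf⟩
    apply orderOf_eq_prime
    · have c₁ := b₁.pow f
      have c₂ := b₂.pow f
      rw [hτf₁] at c₁
      rw [hτf₂] at c₂
      exact hP.cent _ c₁.mem_centralizer c₂.mem_centralizer
    · intro h
      rw [h] at b₁ b₂
      have d₁ := b₁.eq_one (one_mem _)
      have d₂ := b₂.eq_one (one_mem _)
      rw [d₁, d₂] at hτ
      have : orderOf ((1, 1) : (F ≃+* F) × (F ≃+* F)) = 1 := orderOf_one
      rw [this] at hτ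
      exact hf.one_lt.ne hτ
  have hfn : f ∣ 2 * m + 1 := by
    rw [← hτ]
    apply orderOf_dvd_of_pow_eq_one
    have g₁ : τ₁ ^ (2 * m + 1) = 1 := by rw [← card_aut hm hF]; exact pow_card_eq_one'
    have g₂ : τ₂ ^ (2 * m + 1) = 1 := by rw [← card_aut hm hF]; exact pow_card_eq_one'
    exact Prod.ext g₁ g₂
  have W := hQ.whyp hm hF
  have t4 : ty m f < 4 := W.pi y f hf (by rw [hyf])
  have hf2 : f ≠ 2 := by rintro rfl; omega
  have t0 : ty m f ≠ 0 := fun h => hf2 ((tyHyp m).eq_two f hf h)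
  have hne : 2 * m + 1 ≠ f := by
    intro h
    have := ty_prime hm hm2 (h ▸ hf)
    rw [h] at this
    omega
  -- an involution of the first factor
  have hinv : orderOf (e₁.symm ((good hF).u 0 1) : Q) = 2 := by
    have h2f : Fact (Nat.Prime 2) := ⟨Nat.prime_two⟩
    rw [Subgroup.orderOf_coe, MulEquiv.orderOf_eq]
    apply orderOf_eq_prime
    · rw [pow_two]
      have := (ofGood (good hF)).u_mul_self 0 1
      rw [zero_mul, (ofGood (good hF)).u_zero] at this
      exact this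
    · exact (ofGood (good hF)).u_ne_one one_ne_zero
  have cinv : Commute y (e₁.symm ((good hF).u 0 1) : Q) := by
    apply b₁.commute
    rw [fieldAut_u, map_zero, map_one]
  by_cases t1 : ty m f = 1
  · -- an element of order five of the second factor
    obtain ⟨h6, h7⟩ := Cfsg.Agent.OddCyclic.T1SzFacts.exists_five_good (good hF)
    set g := (good hF).u 1 0 * (good hF).u 1 0 * (good hF).w with hg
    have h8 : orderOf g = 5 := by
      have h5f : Fact (Nat.Prime 5) := ⟨by norm_num⟩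
      apply orderOf_eq_prime
      · rw [← h7]
        simp only [pow_succ, pow_zero, one_mul]
      · intro h
        have h3 : (good hF).w = ((good hF).u 1 0 * (good hF).u 1 0)⁻¹ :=
          (inv_eq_of_mul_eq_one_right h).symm
        have h4 : (good hF).w ∈ (ofGood (good hF)).T := by
          rw [h3]
          exact inv_mem (mul_mem ((ofGood (good hF)).u_mem 1 0) ((ofGood (good hF)).u_mem 1 0))
        exact (ofGood (good hF)).w_not_mem_normalizer (Subgroup.le_normalizer h4)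
    have h9 : orderOf (e₂.symm g : Q) = 5 := by
      rw [Subgroup.orderOf_coe, MulEquiv.orderOf_eq, h8]
    have h10 : Commute y (e₂.symm g : Q) := by
      apply b₂.commute
      rw [hg, map_mul, map_mul, fieldAut_u, fieldAut_w, map_zero, map_one]
    have h5 : ty m 5 ≠ 0 ∧ ty m 5 ≠ 1 := by
      rcases ty_five hm with h | h <;> rw [h] <;> norm_num
    exact W.no3 hf Nat.prime_two (by norm_num : Nat.Prime 5) (by rw [ty_two]; exact t0)
      (by rw [ty_two]; exact h5.1.symm) (by rw [t1]; exact h5.2.symm) hyf hinv h9 cinv h10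
      (hP.comm _ (e₁.symm _).2 _ (e₂.symm g).2)
  · -- a torus element of the second factor
    obtain ⟨k, hk, hkf⟩ := exists_fixed_unit hm hF hf hτf₂ hne
    have hk1 : orderOf k ≠ 1 := fun h => hk (orderOf_eq_one_iff.mp h)
    obtain ⟨p, hp, hpk⟩ := Nat.exists_prime_and_dvd hk1
    have hcard : Nat.card Fˣ = 2 ^ (2 * m + 1) - 1 := by
      rw [Nat.card_units, Nat.card_eq_fintype_card, hF]
    have hp1 : ty m p = 1 := ty_one (by rw [← hcard]; exact hpk.trans (orderOf_dvd_natCard k))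
    set l := k ^ (orderOf k / p) with hl
    have hlo : orderOf l = p := orderOf_pow_orderOf_div (orderOf_pos k).ne' hpk
    have hlf : Units.map (τ₂ : F →* F) l = l := by
      have h1 : Units.map (τ₂ : F →* F) k = k := Units.ext hkf
      rw [hl, map_pow, h1]
    have h9 : orderOf (e₂.symm ((good hF).d l) : Q) = p := by
      rw [Subgroup.orderOf_coe, MulEquiv.orderOf_eq]
      have : (good hF).d l = dHom (ofGood (good hF)) l := rfl
      rw [this, orderOf_injective (dHom (ofGood (good hF))) (dHom_injective _), hlo]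
    have h10 : Commute y (e₂.symm ((good hF).d l) : Q) := by
      apply b₂.commute
      rw [fieldAut_d, hlf]
    exact W.no3 hf Nat.prime_two hp (by rw [ty_two]; exact t0)
      (by rw [ty_two, hp1]; norm_num) (by rw [hp1]; exact t1) hyf hinv h9 cinv h10
      (hP.comm _ (e₁.symm _).2 _ (e₂.symm _).2)

end pair

end Cfsg.Agent.H381.SzOuter
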