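import Cfsg.Agent.H381.SzOne

/-!
# Two Suzuki factors: the kernel is trivial
-/

set_option autoImplicit false
set_option linter.unusedSectionVars false

namespace Cfsg.Agent.H381.SzTwo

open Subgroup
open scoped commutatorElement
open Cfsg (piCoreOf fittingOf IsPiHallOf)
open Cfsg.Agent.H381.Tools
open Cfsg.Agent.H381.Lucido
open Cfsg.Agent.H381.Cover
open Cfsg.Agent.H381.SzCore
open Cfsg.Agent.H381.SzOne
open Cfsg.Agent.H381.Criterion (commutator_zpowers_le normalizer_le_normalizer_centralizer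
  orderOf_prime_pow orderOf_conj exists_unique_of_fpf mem_normalizer_unique mem_centralizer_bot
  le_normalizer_inf)

universe u v w

variable {ty v : ℕ → ℕ} {E : Type u} [Group E] [Finite E] {T : Type v} [Group T]
  {L₁ L₂ : Type w} [Group L₁] [Group L₂]

/-- the centraliser of a `p`-element covers what its image centralises if the kernel is a `p'`-group -/
theorem cov_centralizer {L : Type w} [Group L] {f : E →* T} {ι : L →* T} {p : ℕ} (hp : p.Prime)
    (hK : ¬ p ∣ Nat.card f.ker) (hE : Cov f ι ⊤) {i : E} {k : ℕ} (hi : orderOf i = p ^ k)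
    (hc : ∀ y : L, Commute (f i) (ι y)) : Cov f ι (centralizer {i}) := by
  have : Fact p.Prime := ⟨hp⟩
  rintro _ ⟨y, rfl⟩
  obtain ⟨g, -, hg⟩ := hE.exists_lift y
  obtain ⟨d, hd, hdc⟩ :=
    Cfsg.Agent.SignalizersComponents.CoprimeBasic.exists_fixed_in_coset_of_pow (p := p) i k
      (by rw [← hi]; exact pow_orderOf_eq_one i) f.ker hK
      (fun d hd => (inferInstance : f.ker.Normal).conj_mem d hd i) g (by
        rw [MonoidHom.mem_ker, map_mul, map_mul, map_mul, map_inv, map_inv, hg, (hc y).eq]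
        group)
  refine ⟨g * d, ?_, ?_⟩
  · rw [SetLike.mem_coe, mem_cent_iff]
    exact hdc
  · rw [map_mul, MonoidHom.mem_ker.mp hd, mul_one, hg]

/-- an element of prime order cannot commute with a subgroup covering both factors -/
theorem not_cov2 (W : WHyp ty v E) (hL₁ : LHyp0 ty L₁) (hL₂ : LHyp0 ty L₂) {f : E →* T}
    {ι₁ : L₁ →* T} {ι₂ : L₂ →* T} (h₁ : Function.Injective ι₁) (h₂ : Function.Injective ι₂)
    (hcomm : ∀ a b, Commute (ι₁ a) (ι₂ b)) {a : ℕ} (ha : a.Prime) {z : E} (hz : orderOf z = a)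
    {N : Subgroup E} (hN : N ≤ centralizer {z}) (hc₁ : Cov f ι₁ N) (hc₂ : Cov f ι₂ N) : False := by
  -- two further types
  obtain ⟨c, hc, hcL, hca, -⟩ := hL₁.third (ty a) (ty a)
  obtain ⟨d, hd, hdL, hda, hdc⟩ := hL₂.third (ty a) (ty c)
  have hij : ty c ≠ ty d := hdc.symm
  have hcf : Fact c.Prime := ⟨hc⟩
  have hdf : Fact d.Prime := ⟨hd⟩
  have hfinN : Finite (N.map f) := Finite.of_surjective _ (f.subgroupMap_surjective N)
  have hfin₁ : Finite L₁ := Finite.of_injective (fun x => (⟨ι₁ x, hc₁ ⟨x, rfl⟩⟩ : (N.map f : Subgroup T)))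
    (fun x y h => h₁ (congrArg Subtype.val h))
  have hfin₂ : Finite L₂ := Finite.of_injective (fun x => (⟨ι₂ x, hc₂ ⟨x, rfl⟩⟩ : (N.map f : Subgroup T)))
    (fun x y h => h₂ (congrArg Subtype.val h))
  obtain ⟨x, hx⟩ := exists_prime_orderOf_dvd_card' c hcL
  obtain ⟨y, hy⟩ := exists_prime_orderOf_dvd_card' d hdL
  obtain ⟨m, hm, hmx⟩ := hc₁.exists_lift x
  obtain ⟨n, hn, hny⟩ := hc₂.exists_lift y
  have hcd : c.Coprime d := (Nat.coprime_primes hc hd).mpr (fun e => hij (by rw [e]))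
  have ho : orderOf (f (m * n)) = c * d := by
    rw [map_mul, hmx, hny]
    exact orderOf_mul (hcomm x y) (by rw [orderOf_injective ι₁ h₁, hx])
      (by rw [orderOf_injective ι₂ h₂, hy]) hcd
  have hdvd : c * d ∣ orderOf (m * n) := ho ▸ orderOf_map_dvd f (m * n)
  have hzg : Commute z (m * n) := mem_cent_iff.mp (hN (mul_mem hm hn))
  -- the powers of order `c` and `d`
  have hpow : ∀ e : ℕ, e ∣ orderOf (m * n) → e ≠ 0 → orderOf ((m * n) ^ (orderOf (m * n) / e)) = e :=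
    fun e he _ => orderOf_pow_orderOf_div (orderOf_pos _).ne' he
  refine W.no3 ha hc hd hca.symm hij hda.symm hz (hpow c ((dvd_mul_right c d).trans hdvd) hc.ne_zero)
    (hpow d ((dvd_mul_left d c).trans hdvd) hd.ne_zero) (hzg.pow_right _) (hzg.pow_right _)
    ((Commute.refl (m * n)).pow_pow _ _)

/-- **Two Suzuki factors**: the kernel is trivial. -/
theorem ker_eq_bot (hty : TyHyp ty) (W : WHyp ty v E) (hL₁ : LHyp ty v L₁) (hL₂ : LHyp ty v L₂)
    (hb₁ : ∀ p : ℕ, p.Prime → ty p = 1 → p ∣ Nat.card E → p ∣ Nat.card L₁)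
    (hb₂ : ∀ p : ℕ, p.Prime → ty p = 1 → p ∣ Nat.card E → p ∣ Nat.card L₂) {f : E →* T}
    {ι₁ : L₁ →* T} {ι₂ : L₂ →* T} (h₁ : Function.Injective ι₁) (h₂ : Function.Injective ι₂)
    (hcomm : ∀ a b, Commute (ι₁ a) (ι₂ b)) (hS : Group.IsSolvable f.ker) (hc₁ : Cov f ι₁ ⊤)
    (hc₂ : Cov f ι₂ ⊤) : f.ker = ⊥ := by
  have norm : ∀ {r : ℕ} {R : Subgroup E}, IsPiHallOf {r} R f.ker →
      Cov f ι₁ (normalizer (R : Set E)) ∧ Cov f ι₂ (normalizer (R : Set E)) := by
    intro r R hR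
    have h3 := hc₁.frattini hS le_top (by rw [normalizer_eq_top]) le_rfl hR
    have h4 := hc₂.frattini hS le_top (by rw [normalizer_eq_top]) le_rfl hR
    rw [top_inf_eq] at h3 h4
    exact ⟨h3, h4⟩
  have fin : ∀ {r : ℕ} {R : Subgroup E}, r.Prime → r ∣ Nat.card f.ker → IsPiHallOf {r} R f.ker →
      Cov f ι₁ (normalizer (R : Set E) ⊓ centralizer (R : Set E)) →
      Cov f ι₂ (normalizer (R : Set E) ⊓ centralizer (R : Set E)) → False := by
    intro r R hr hrK hR k1 k2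
    obtain ⟨z, hz, hzr⟩ := exists_mem_of_dvd hr
      (Cfsg.Agent.OddOrderLocal.HallPi.prime_dvd_card hR hr (Set.mem_singleton r) hrK)
    exact not_cov2 W hL₁.to0 hL₂.to0 h₁ h₂ hcomm hr hzr
      (inf_le_right.trans (centralizer_le (by simpa using hz))) k1 k2
  -- the kernel has odd order
  have hodd : ¬ 2 ∣ Nat.card f.ker := by
    intro h2
    obtain ⟨R, hR, hRr⟩ := exists_hall hS Nat.prime_two
    obtain ⟨n1, n2⟩ := norm hR
    exact fin Nat.prime_two h2 hR (two_central W hL₁.to0 hS n1 le_rfl hRr)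
      (two_central W hL₂.to0 hS n2 le_rfl hRr)
  -- involutions over one factor have no fixed points on `R`
  have key : ∀ {M₁ M₂ : Type w} [Group M₁] [Group M₂] {j₁ : M₁ →* T} {j₂ : M₂ →* T},
      LHyp ty v M₁ → LHyp ty v M₂ →
      (∀ p : ℕ, p.Prime → ty p = 1 → p ∣ Nat.card E → p ∣ Nat.card M₂) → Function.Injective j₁ →
      Function.Injective j₂ → (∀ a b, Commute (j₁ a) (j₂ b)) → Cov f j₂ ⊤ → ∀ {r : ℕ}
      {R : Subgroup E}, r.Prime → r ≠ 2 → ty r ≠ 1 → IsPiHallOf {r} R f.ker → IsPGroup r R →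
      Cov f j₁ (normalizer (R : Set E)) →
      Cov f j₁ (normalizer (R : Set E) ⊓ centralizer (R : Set E)) := by
    intro M₁ M₂ _ _ j₁ j₂ g₁ g₂ gb i₁ i₂ gc gE r R hr hr2 hr1 hR hRr n1
    by_contra hcon
    obtain ⟨i, hi, hi2, x, hx, hix⟩ := exists_involution W g₁.to0 i₁ n1
    have hne := fix_involution g₁.to0 n1 le_rfl hcon i₁ hi hi2 hx hix
    obtain ⟨z, hz, hzr⟩ := exists_mem_of_ne_bot hr (hRr.to_le inf_le_left) hne
    rw [mem_fix] at hz
    have hr0 : ty r ≠ 0 := fun h => hr2 (hty.eq_two r hr h)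
    have hci : Cov f j₂ (centralizer {i}) :=
      cov_centralizer Nat.prime_two hodd gE (k := 1) (by rw [hi2, pow_one])
        (fun y => by rw [hix]; exact gc x y)
    set N : Subgroup E := centralizer {i} ⊓ f.ker with hN
    have hNs : Group.IsSolvable N :=
      Group.isSolvable_of_isSolvable_injective (f := Subgroup.inclusion (inf_le_right : N ≤ f.ker))
        (Subgroup.inclusion_injective _)
    have hnorm : centralizer {i} ≤ normalizer (N : Set E) := by
      apply le_normalizer_inf le_normalizer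
      rw [normalizer_eq_top]; exact le_top
    obtain ⟨R', hR', hRr'⟩ := exists_hall hNs hr
    have hRN : R' ≤ N := hR'.1
    set M : Subgroup E := centralizer {i} ⊓ normalizer (R' : Set E) with hM
    have hMcov : Cov f j₂ M := hci.frattini hNs inf_le_left hnorm inf_le_right hR'
    have hMR : M ≤ normalizer (R' : Set E) := inf_le_right
    have hMi : M ≤ centralizer {i} := inf_le_left
    have hrN : r ∣ Nat.card N :=
      dvd_card_of_mem (mem_inf.mpr ⟨mem_cent_iff.mpr hz.2, hR.1 hz.1⟩) hzr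
    obtain ⟨y, hy, hyr⟩ := exists_mem_of_dvd hr
      (Cfsg.Agent.OddOrderLocal.HallPi.prime_dvd_card hR' hr (Set.mem_singleton r) hrN)
    have hiy : Commute i y := mem_cent_iff.mp (mem_inf.mp (hRN hy)).1
    have hnc : ¬ Cov f j₂ (M ⊓ centralizer (R' : Set E)) := by
      apply W.not_cov g₂.to0 i₂ Nat.prime_two hr (by rw [hty.two]; exact hr0.symm) hi2 hyr hiy
        (inf_le_left.trans hMi)
      exact inf_le_right.trans (centralizer_le (by simpa using hy))
    obtain ⟨c, hc, hcc, hcL⟩ := g₂.rep 1 (by norm_num)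
    obtain ⟨a, haM, hac, haR⟩ := fix_b hty W g₂ i₂ hS hc hcc hcL hr hr2 (by
      rintro rfl; exact hr1 hcc) hMcov hMR hRr' hnc
    obtain ⟨y', hy', hyr'⟩ := exists_mem_of_ne_bot hr (hRr'.to_le inf_le_left) haR
    rw [mem_fix] at hy'
    exact W.no3 Nat.prime_two hr hc (by rw [hty.two]; exact hr0.symm) (by rw [hcc]; exact hr1)
      (by rw [hty.two, hcc]; norm_num) hi2 hyr' hac
      (mem_cent_iff.mp (mem_inf.mp (hRN hy'.1)).1) (mem_cent_iff.mp (hMi haM)) hy'.2.symm
  -- no prime divides the order of the kernel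
  by_contra hne
  have h1 : Nat.card f.ker ≠ 1 := fun h => hne (Subgroup.card_eq_one.mp h)
  obtain ⟨r, hr, hrK⟩ := Nat.exists_prime_and_dvd h1
  have hr2 : r ≠ 2 := by rintro rfl; exact hodd hrK
  obtain ⟨R, hR, hRr⟩ := exists_hall hS hr
  obtain ⟨n1, n2⟩ := norm hR
  by_cases hr1 : ty r = 1
  · have hrE : r ∣ Nat.card E := hrK.trans (Subgroup.card_subgroup_dvd_card _)
    exact fin hr hrK hR (b_central hty W hL₁ hS hr hr1 (hb₁ r hr hr1 hrE) n1 le_rfl hRr)
      (b_central hty W hL₂ hS hr hr1 (hb₂ r hr hr1 hrE) n2 le_rfl hRr)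
  · exact fin hr hrK hR (key hL₁ hL₂ hb₂ h₁ h₂ hcomm hc₂ hr hr2 hr1 hR hRr n1)
      (key hL₂ hL₁ hb₁ h₂ h₁ (fun a b => (hcomm b a).symm) hc₁ hr hr2 hr1 hR hRr n2)

end Cfsg.Agent.H381.SzTwo
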