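import Cfsg.Agent.H381.SzComp
import Cfsg.Agent.H381.SzOne
import Cfsg.Agent.H381.SzTwo

/-!
# One component over the full field
-/

set_option autoImplicit false
set_option linter.unusedSectionVars false

namespace Cfsg.Agent.H381.SzRed

open Subgroup
open Cfsg (IsComponent layer fittingSubgroup generalizedFittingSubgroup Out Inn)
open Cfsg.Agent.SignalizersComponents
open Cfsg.Agent.H98.SzPartition (torusOrders mem_torusOrders_iff odd_of_mem one_lt_of_mem eq_of_prime_dvd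
  sylow_or_torus)
open Cfsg.Agent.H381.SzSpec
open Cfsg.Agent.H381.SzComp
open Cfsg.Agent.H381.SzCore
open Cfsg.Agent.H381.Cover

variable {F : Type*} [Field F] [Fintype F] {m : ℕ}

/-- maximal element orders -/
def N (m i : ℕ) : ℕ :=
  if i = 0 then 4 else if i = 1 then 2 ^ (2 * m + 1) - 1 else
    if i = 2 then 2 ^ (2 * m + 1) - 2 ^ (m + 1) + 1 else 2 ^ (2 * m + 1) + 2 ^ (m + 1) + 1

theorem N_mem {i : ℕ} (h0 : i ≠ 0) : N m i ∈ torusOrders m := by
  unfold N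
  rw [if_neg h0]
  split_ifs
  exacts [mem_one m, mem_two m, mem_three m]

theorem N_ne_one (hm : 1 ≤ m) (i : ℕ) : N m i ≠ 1 := by
  by_cases h0 : i = 0
  · subst h0; simp [N]
  · exact (one_lt_of_mem hm (N_mem h0)).ne'

theorem N_ne_zero (hm : 1 ≤ m) (i : ℕ) : N m i ≠ 0 := by
  by_cases h0 : i = 0
  · subst h0; simp [N]
  · exact (zero_lt_one.trans (one_lt_of_mem hm (N_mem h0))).ne'

theorem lt_N (hm : 1 ≤ m) {i : ℕ} (h0 : i ≠ 0) : 2 * m + 1 < N m i := by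
  have h1 : 2 ^ (m + 1) ≤ 2 ^ (2 * m + 1) := Nat.pow_le_pow_right (by norm_num) (by omega)
  have h2 : m < 2 ^ m := Nat.lt_two_pow_self
  have h3 : 2 ^ (2 * m + 1) = 2 ^ (m + 1) * 2 ^ m := by rw [← pow_add]; congr 1; omega
  have h4 : 2 ^ (m + 1) = 2 * 2 ^ m := by ring
  have h5 : 2 ≤ 2 ^ m := by omega
  have h6 : 2 ^ (m + 1) * 2 ≤ 2 ^ (m + 1) * 2 ^ m := Nat.mul_le_mul_left _ h5
  unfold N
  rw [if_neg h0]
  split_ifs
  · omega
  · omega
  · omega

theorem N_not_dvd (hm : 1 ≤ m) (i : ℕ) : ¬ N m i ∣ 2 * m + 1 := by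
  by_cases h0 : i = 0
  · subst h0; simp only [N, if_true]; omega
  · exact Nat.not_dvd_of_pos_of_lt (by omega) (lt_N hm h0)

theorem ty_N (hm : 1 ≤ m) {i : ℕ} (hi : i < 4) {p : ℕ} (hp : p.Prime) (h : p ∣ N m i) : ty m p = i := by
  unfold N at h
  split_ifs at h with h0 h1 h2
  · have h3 : p ∣ 2 ^ 2 := by norm_num; exact h
    rw [(Nat.prime_dvd_prime_iff_eq hp Nat.prime_two).mp (hp.dvd_of_dvd_pow h3), ty_two, h0]
  · rw [ty_one h, h1]
  · rw [ty_eq_two hm hp h, h2]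
  · rw [ty_three hp h]; omega

theorem exists_N (hm : 1 ≤ m) (hF : Fintype.card F = 2 ^ (2 * m + 1)) (i : ℕ) :
    ∃ g : LS F m, orderOf g = N m i := by
  by_cases h0 : i = 0
  · obtain ⟨y, s, -, hs, -⟩ := exists_five (F := F) (m := m) hF
    exact ⟨s, by rw [hs, h0]; rfl⟩
  · exact exists_torus hm hF (N_mem h0)

theorem coprime_N (hm : 1 ≤ m) {i j : ℕ} (hi : i < 4) (hj : j < 4) (hij : i ≠ j) :
    (N m i).Coprime (N m j) := by
  rw [Nat.coprime_iff_gcd_eq_one]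
  by_contra hne
  obtain ⟨p, hp, hpd⟩ := Nat.exists_prime_and_dvd hne
  exact hij ((ty_N hm hi hp (hpd.trans (Nat.gcd_dvd_left _ _))).symm.trans
    (ty_N hm hj hp (hpd.trans (Nat.gcd_dvd_right _ _))))

section act

variable {Q : Type*} [Group Q]

/-- the `n`-th power of every element of the normaliser induces an inner automorphism -/
theorem pow_mem (hm : 1 ≤ m) (hF : Fintype.card F = 2 ^ (2 * m + 1)) {K : Subgroup Q}
    (e : K ≃* LS F m) {x : Q} (hx : x ∈ normalizer (K : Set Q)) :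
    ∃ k ∈ K, k⁻¹ * x ^ (2 * m + 1) ∈ centralizer (K : Set Q) := by
  let ψ : normalizer (K : Set Q) →* Out (LS F m) :=
    ((QuotientGroup.mk' (Inn (LS F m))).comp (MulAut.congr e).toMonoidHom).comp
      K.normalizerMonoidHom
  have h1 : ψ (⟨x, hx⟩ ^ (2 * m + 1)) = 1 := by
    rw [map_pow]
    have := Cfsg.Agent.H70.SzOut.card_out (F := F) hm hF
    rw [← this]
    exact pow_card_eq_one'
  have h2 : MulAut.congr e (K.normalizerMonoidHom (⟨x, hx⟩ ^ (2 * m + 1))) ∈ Inn (LS F m) :=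
    (QuotientGroup.eq_one_iff _).mp h1
  obtain ⟨g, hg⟩ := h2
  refine ⟨e.symm g, (e.symm g).2, ?_⟩
  rw [mem_centralizer_iff]
  intro y hy
  have h3 := congrArg (fun z : MulAut (LS F m) => z (e ⟨y, hy⟩)) hg
  have h4 : g * e ⟨y, hy⟩ * g⁻¹ = e (K.normalizerMonoidHom (⟨x, hx⟩ ^ (2 * m + 1)) ⟨y, hy⟩) := by
    have : MulAut.congr e (K.normalizerMonoidHom (⟨x, hx⟩ ^ (2 * m + 1))) (e ⟨y, hy⟩) =
        e (K.normalizerMonoidHom (⟨x, hx⟩ ^ (2 * m + 1)) (e.symm (e ⟨y, hy⟩))) := rfl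
    rw [e.symm_apply_apply] at this
    rw [← this, ← h3]
    rfl
  have h5 : e.symm g * ⟨y, hy⟩ * (e.symm g)⁻¹ = K.normalizerMonoidHom (⟨x, hx⟩ ^ (2 * m + 1)) ⟨y, hy⟩ := by
    apply e.injective
    rw [← h4, map_mul, map_mul, map_inv, e.apply_symm_apply]
  have h6 : (e.symm g : Q) * y * (e.symm g : Q)⁻¹ = x ^ (2 * m + 1) * y * (x ^ (2 * m + 1))⁻¹ :=
    congrArg (fun z : K => (z : Q)) h5
  generalize (e.symm g : Q) = k at h6 ⊢
  generalize x ^ (2 * m + 1) = z at h6 ⊢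
  calc y * (k⁻¹ * z) = k⁻¹ * (k * y * k⁻¹) * z := by group
    _ = k⁻¹ * (z * y * z⁻¹) * z := by rw [h6]
    _ = k⁻¹ * z * y := by group

theorem lhyp' (hm : 1 ≤ m) (hF : Fintype.card F = 2 ^ (2 * m + 1)) : LHyp (ty m) (vv m) (LS F m) :=
  lhyp hm hF

end act

section one

variable {G : Type*} [Group G] [Finite G] {Q : Type*} [Group Q]

theorem card_ker_coprime {f : G →* Q} {N : ℕ} {g : G} (hg : orderOf g = N)
    (hcop : N.Coprime (Nat.card f.ker)) : orderOf (f g) = N := by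
  have h1 : orderOf (f g) ∣ N := hg ▸ orderOf_map_dvd f g
  have h2 : g ^ orderOf (f g) ∈ f.ker := by
    rw [MonoidHom.mem_ker, map_pow, pow_orderOf_eq_one]
  have h3 : orderOf (g ^ orderOf (f g)) ∣ N := hg ▸ orderOf_pow_dvd _
  have h4 : orderOf (g ^ orderOf (f g)) ∣ Nat.card f.ker := Subgroup.orderOf_dvd_natCard _ h2
  have h5 : orderOf (g ^ orderOf (f g)) = 1 := Nat.eq_one_of_dvd_coprimes hcop h3 h4
  rw [orderOf_eq_one_iff] at h5
  apply Nat.dvd_antisymm h1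
  rw [← hg]
  exact orderOf_dvd_of_pow_eq_one h5

/-- one of two types occurs in the kernel -/
theorem exists_type (hm : 1 ≤ m) (hF : Fintype.card F = 2 ^ (2 * m + 1))
    (hG' : ∀ x : LS F m × LS F m, ∃ g : G, orderOf g = orderOf x) {f : G →* Q} {K : Subgroup Q}
    (e : K ≃* LS F m) (hK : ∀ x : Q, x ^ (2 * m + 1) ∈ K) {i j : ℕ} (hi : i < 4) (hj : j < 4)
    (hij : i ≠ j) : ∃ p : ℕ, p.Prime ∧ p ∣ Nat.card f.ker ∧ (ty m p = i ∨ ty m p = j) := by
  by_contra hcon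
  push Not at hcon
  obtain ⟨a, ha⟩ := exists_N (F := F) hm hF i
  obtain ⟨b, hb⟩ := exists_N (F := F) hm hF j
  obtain ⟨g, hg⟩ := hG' (a, b)
  have hcop := coprime_N hm hi hj hij
  rw [Prod.orderOf_mk, ha, hb, hcop.lcm_eq_mul] at hg
  have hc : (N m i * N m j).Coprime (Nat.card f.ker) := by
    rw [Nat.coprime_iff_gcd_eq_one]
    by_contra hne
    obtain ⟨p, hp, hpd⟩ := Nat.exists_prime_and_dvd hne
    have h1 := hcon p hp (hpd.trans (Nat.gcd_dvd_right _ _))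
    rcases (Nat.Prime.dvd_mul hp).mp (hpd.trans (Nat.gcd_dvd_left _ _)) with h2 | h2
    · exact h1.1 (ty_N hm hi hp h2)
    · exact h1.2 (ty_N hm hj hp h2)
  have h1 := card_ker_coprime hg hc
  have h2 := hK (f g)
  set M := orderOf (f g ^ (2 * m + 1)) with hM
  have h3 : N m i * N m j = M * (N m i * N m j).gcd (2 * m + 1) := by
    rw [hM, orderOf_pow' _ (by omega), h1]
    exact (Nat.div_mul_cancel (Nat.gcd_dvd_left _ _)).symm
  have h4 : orderOf (e ⟨_, h2⟩) = M := by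
    rw [MulEquiv.orderOf_eq, Subgroup.orderOf_mk]
  obtain ⟨t, ht, h5⟩ := sep hm hF (e ⟨_, h2⟩)
  rw [h4] at h5
  have key : ∀ k : ℕ, k < 4 → k ≠ t → N m k ∣ N m i * N m j → False := by
    intro k hk hkt hd
    have h6 : (N m k).Coprime M := by
      rw [Nat.coprime_iff_gcd_eq_one]
      by_contra hne
      obtain ⟨p, hp, hpd⟩ := Nat.exists_prime_and_dvd hne
      exact hkt ((ty_N hm hk hp (hpd.trans (Nat.gcd_dvd_left _ _))).symm.trans
        (h5 p hp (hpd.trans (Nat.gcd_dvd_right _ _))))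
    rw [h3] at hd
    exact N_not_dvd hm k ((h6.dvd_of_dvd_mul_left hd).trans (Nat.gcd_dvd_right _ _))
  by_cases hit : i = t
  · exact key j hj (fun h => hij (hit.trans h.symm)) (dvd_mul_left _ _)
  · exact key i hi hit (dvd_mul_right _ _)

/-- **One component over the full field is impossible.** -/
theorem one_component_false (hm : 1 ≤ m) (hF : Fintype.card F = 2 ^ (2 * m + 1)) (hG : OrdLe F m G)
    (hG' : ∀ x : LS F m × LS F m, ∃ g : G, orderOf g = orderOf x) {f : G →* Q}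
    (hf : Function.Surjective f) (hS : Group.IsSolvable f.ker) {K : Subgroup Q} (e : K ≃* LS F m)
    (hK : ∀ x : Q, x ^ (2 * m + 1) ∈ K) : False := by
  have hrep : ∀ i : ℕ, i < 4 → ∃ p : ℕ, p.Prime ∧ ty m p = i ∧
      ((∃ r : ℕ, r.Prime ∧ r ∣ Nat.card f.ker ∧ ty m r = i) → p ∣ Nat.card f.ker) := by
    intro i hi
    by_cases h : ∃ r : ℕ, r.Prime ∧ r ∣ Nat.card f.ker ∧ ty m r = i
    · obtain ⟨r, hr, hrd, hri⟩ := h
      exact ⟨r, hr, hri, fun _ => hrd⟩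
    · obtain ⟨p, hp, hpi, -⟩ := (lhyp (F := F) hm hF).rep i hi
      exact ⟨p, hp, hpi, fun h' => absurd h' h⟩
  obtain ⟨b, hb, hb1, hb2⟩ := hrep 1 (by norm_num)
  obtain ⟨x, hx, hx1, hx2⟩ := hrep 2 (by norm_num)
  obtain ⟨y, hy, hy1, hy2⟩ := hrep 3 (by norm_num)
  have h2 : (∃ r : ℕ, r.Prime ∧ r ∣ Nat.card f.ker ∧ ty m r = 0) → 2 ∣ Nat.card f.ker := by
    rintro ⟨r, hr, hrd, hr0⟩
    rwa [(tyHyp m).eq_two r hr hr0] at hrd
  have pairs : ∀ i j p r : ℕ, i < 4 → j < 4 → i ≠ j →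
      ((∃ r : ℕ, r.Prime ∧ r ∣ Nat.card f.ker ∧ ty m r = i) → p ∣ Nat.card f.ker) →
      ((∃ r : ℕ, r.Prime ∧ r ∣ Nat.card f.ker ∧ ty m r = j) → r ∣ Nat.card f.ker) →
      p ∣ Nat.card f.ker ∨ r ∣ Nat.card f.ker := by
    intro i j p r hi hj hij h3 h4
    obtain ⟨s, hs, hsd, h5 | h5⟩ := exists_type hm hF hG' (f := f) e hK hi hj hij
    · exact Or.inl (h3 ⟨s, hs, hsd, h5⟩)
    · exact Or.inr (h4 ⟨s, hs, hsd, h5⟩)
  refine SzOne.one_false (tyHyp m) (hG.whyp hm hF) (lhyp (F := F) hm hF) ?_ (f := f)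
    (ι := K.subtype.comp e.symm.toMonoidHom) (K.subtype_injective.comp e.symm.injective) hS ?_ hb hx hy
    hb1 hx1 hy1 (pairs 0 1 2 b (by norm_num) (by norm_num) (by norm_num) h2 hb2)
    (pairs 0 2 2 x (by norm_num) (by norm_num) (by norm_num) h2 hx2)
    (pairs 0 3 2 y (by norm_num) (by norm_num) (by norm_num) h2 hy2)
    (pairs 1 2 b x (by norm_num) (by norm_num) (by norm_num) hb2 hx2)
    (pairs 1 3 b y (by norm_num) (by norm_num) (by norm_num) hb2 hy2)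
    (pairs 2 3 x y (by norm_num) (by norm_num) (by norm_num) hx2 hy2)
  · intro p hp hp1 _
    obtain ⟨g, hg⟩ := exists_torus (F := F) hm hF (mem_one m)
    exact (dvd_of_ty_one hp1).trans (hg ▸ orderOf_dvd_natCard g)
  · rw [Cov, ← MonoidHom.range_eq_map, MonoidHom.range_eq_top.mpr hf]
    exact le_top

end one

end Cfsg.Agent.H381.SzRed
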