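import Cfsg.Agent.H381.SzEight
import Cfsg.Agent.H381.SzMain

/-!
# One component over a smaller field
-/

set_option autoImplicit false
set_option linter.unusedSectionVars false

namespace Cfsg.Agent.H381.SzSmall

open Subgroup
open Cfsg (IsComponent layer fittingSubgroup generalizedFittingSubgroup Out Inn)
open Cfsg.Agent.SignalizersComponents
open Cfsg.Agent.H98.SzPartition (torusOrders mem_torusOrders_iff odd_of_mem one_lt_of_mem eq_of_prime_dvd
  sylow_or_torus)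
open Cfsg.Agent.LieRecognition.SzMatrix (good)
open Cfsg.Agent.ThreePrime.SzRel (ofGood)
open Cfsg.Agent.H381.SzSpec
open Cfsg.Agent.H381.SzComp
open Cfsg.Agent.H381.SzCore
open Cfsg.Agent.H381.SzRed
open Cfsg.Agent.H381.SzMain
open Cfsg.Agent.H381.SzGen
open Cfsg.Agent.H381.SzEight
open Cfsg.Agent.H381.Cover
open Cfsg.Agent.H381.Tools
open Cfsg.Agent.H381.Lucido

variable {F : Type*} [Field F] [Fintype F] {m : ℕ}

/-- an elementary abelian subgroup of order `8` -/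
theorem exists_el8 {J : Type*} [Group J] {F' : Type*} [Field F'] [Fintype F'] {m' : ℕ} (hm' : 1 ≤ m')
    (hF' : Fintype.card F' = 2 ^ (2 * m' + 1)) (R : Cfsg.Agent.ThreePrime.SzRel.Rel J F') :
    ∃ A : Subgroup J, Nat.card A = 8 ∧ ∀ x ∈ A, x * x = 1 := by
  have h2f : Fact (Nat.Prime 2) := ⟨Nat.prime_two⟩
  let φ : Multiplicative F' →* J :=
    { toFun := fun b => R.u 0 b.toAdd
      map_one' := R.u_zero
      map_mul' := fun a b => by
        rw [R.u_mul, toAdd_mul, zero_add, zero_mul, add_zero] }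
  have hφ : Function.Injective φ := by
    intro a b h
    exact Multiplicative.toAdd.injective (R.u_inj h).2
  have hcard : Nat.card φ.range = 2 ^ (2 * m' + 1) := by
    rw [← Nat.card_congr (MonoidHom.ofInjective hφ).toEquiv, Nat.card_congr Multiplicative.toAdd,
      Nat.card_eq_fintype_card, hF']
  have : Finite φ.range := Nat.finite_of_card_ne_zero (by rw [hcard]; positivity)
  obtain ⟨A, hA⟩ := Sylow.exists_subgroup_card_pow_prime (G := φ.range) 2 (n := 3)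
    (by rw [hcard]; exact pow_dvd_pow 2 (by omega))
  refine ⟨A.map φ.range.subtype, ?_, ?_⟩
  · rw [Subgroup.card_map_of_injective φ.range.subtype_injective, hA]; norm_num
  · rintro _ ⟨⟨_, ⟨b, rfl⟩⟩, -, rfl⟩
    show φ b * φ b = 1
    show R.u 0 _ * R.u 0 _ = 1
    rw [R.u_mul_self, zero_mul, R.u_zero]

/-- the type hypotheses for a Suzuki group over a subfield -/
theorem khyp (hm : 1 ≤ m) {F' : Type*} [Field F'] [Fintype F'] {m' : ℕ} (hm' : 1 ≤ m')
    (hF' : Fintype.card F' = 2 ^ (2 * m' + 1)) (hd : (2 * m' + 1) ∣ (2 * m + 1)) :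
    KHyp (ty m) (LS F' m') where
  simple := (lhyp hm' hF').simple
  four := (lhyp hm' hF').four
  third i j := by
    have hfin : Finite (LS F' m') := inferInstance
    obtain ⟨y, s, hy, hs, -⟩ := exists_five (F := F') (m := m') hF'
    obtain ⟨g, hg⟩ := exists_torus (F := F') hm' hF' (mem_one m')
    obtain ⟨p, hp, hpd⟩ := Nat.exists_prime_and_dvd (one_lt_of_mem hm' (mem_one m')).ne'
    have h2 : 2 ∣ Nat.card (LS F' m') := by
      have := orderOf_dvd_natCard s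
      rw [hs] at this
      exact dvd_trans (by norm_num) this
    have h5 : 5 ∣ Nat.card (LS F' m') := hy ▸ orderOf_dvd_natCard y
    have hpL : p ∣ Nat.card (LS F' m') := hpd.trans (hg ▸ orderOf_dvd_natCard g)
    have hp1 : ty m p = 1 := by
      apply ty_one
      obtain ⟨l, hl⟩ := hd
      rw [hl, pow_mul]
      have := Nat.sub_dvd_pow_sub_pow (2 ^ (2 * m' + 1)) 1 l
      rw [one_pow] at this
      exact hpd.trans this
    have t2 := ty_two m
    by_cases h0 : i ≠ 0 ∧ j ≠ 0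
    · exact ⟨2, Nat.prime_two, h2, by omega, by omega⟩
    by_cases h1 : i ≠ 1 ∧ j ≠ 1
    · exact ⟨p, hp, hpL, by omega, by omega⟩
    refine ⟨5, by norm_num, h5, ?_, ?_⟩ <;> rcases ty_five hm with h | h <;> omega
  frob := by
    obtain ⟨p, hp, hpd⟩ := Nat.exists_prime_and_dvd (one_lt_of_mem hm' (mem_one m')).ne'
    have hp1 : ty m p = 1 := by
      apply ty_one
      obtain ⟨l, hl⟩ := hd
      rw [hl, pow_mul]
      have := Nat.sub_dvd_pow_sub_pow (2 ^ (2 * m' + 1)) 1 l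
      rw [one_pow] at this
      exact hpd.trans this
    let R := ofGood (good hF')
    have hcard : Nat.card F'ˣ = 2 ^ (2 * m' + 1) - 1 := by
      rw [Nat.card_units, Nat.card_eq_fintype_card, hF']
    have hpf : Fact p.Prime := ⟨hp⟩
    obtain ⟨k, hk⟩ := exists_prime_orderOf_dvd_card' (G := F'ˣ) p (by rw [hcard]; exact hpd)
    refine ⟨p, hp, hp1, R.T, R.d k, R.u 0 1, R.isPGroup, R.D_le (R.d_mem k), ?_, R.u_mem 0 1, ?_⟩
    · have : R.d k = dHom R k := rfl
      rw [this, orderOf_injective (dHom R) (dHom_injective R), hk]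
    · intro hc
      have h3 : R.d k * R.u 0 1 * (R.d k)⁻¹ = R.u 0 1 := by
        rw [hc.eq, mul_inv_cancel_right]
      rcases R.fpf h3 with h4 | h4
      · rw [h4, orderOf_one] at hk
        exact hp.one_lt.ne hk
      · exact one_ne_zero h4.2
  el8 := exists_el8 hm' hF' (ofGood (good hF'))

/-- bound for the element orders -/
theorem orderOf_le {F' : Type*} [Field F'] [Fintype F'] {m' : ℕ} (hm' : 1 ≤ m')
    (hF' : Fintype.card F' = 2 ^ (2 * m' + 1)) (x : LS F' m') :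
    orderOf x ≤ 2 ^ (2 * m' + 2) := by
  have h1 : 2 ^ (m' + 1) + 1 ≤ 2 ^ (2 * m' + 1) := by
    have e1 : 2 ^ (2 * m' + 1) = 2 ^ (m' + 1) * 2 ^ m' := by rw [← pow_add]; congr 1; omega
    have e2 : 2 ^ 1 ≤ 2 ^ m' := Nat.pow_le_pow_right (by norm_num) hm'
    have e3 : 2 ^ (m' + 1) * 2 ≤ 2 ^ (m' + 1) * 2 ^ m' := Nat.mul_le_mul_left _ (by simpa using e2)
    have e4 := Nat.one_le_two_pow (n := m' + 1)
    omega
  have h2 : 2 ^ (2 * m' + 2) = 2 * 2 ^ (2 * m' + 1) := by rw [pow_succ]; ring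
  have h3 := Nat.one_le_two_pow (n := m' + 1)
  rcases spec hm' hF' x with h | ⟨n, hn, h⟩
  · have h4 := Nat.le_of_dvd (by norm_num) h
    have h5 : 2 ^ 3 ≤ 2 ^ (2 * m' + 1) := Nat.pow_le_pow_right (by norm_num) (by omega)
    omega
  · have h4 := Nat.le_of_dvd (zero_lt_one.trans (one_lt_of_mem hm' hn)) h
    rcases (mem_torusOrders_iff m' n).1 hn with rfl | rfl | rfl <;> omega

/-- the size estimate -/
theorem bound_lt {m' : ℕ} (hm' : 1 ≤ m') (hd : (2 * m' + 1) ∣ (2 * m + 1)) (hne : m' ≠ m) {i : ℕ}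
    (hi : i ≠ 0) : (2 * m' + 1) * 2 ^ (2 * m' + 2) < N m i := by
  obtain ⟨l, hl⟩ := hd
  have hl3 : 3 ≤ l := by
    by_contra hlt
    have : l = 0 ∨ l = 1 ∨ l = 2 := by omega
    rcases this with rfl | rfl | rfl <;> omega
  have h1 : 3 * (2 * m' + 1) ≤ 2 * m + 1 := by
    rw [hl, mul_comm]
    exact Nat.mul_le_mul_left _ hl3
  have h2 : 2 * m' + 1 ≤ 2 ^ (2 * m') := by
    have : 2 * m' < 2 ^ (2 * m') := Nat.lt_two_pow_self
    omega
  have h3 : (2 * m' + 1) * 2 ^ (2 * m' + 2) ≤ 2 ^ (2 * m') * 2 ^ (2 * m' + 2) :=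
    Nat.mul_le_mul_right _ h2
  rw [← pow_add] at h3
  have h4 : 2 ^ (2 * m' + (2 * m' + 2)) < 2 ^ (2 * m) := Nat.pow_lt_pow_right (by norm_num) (by omega)
  have h5 : 2 ^ (2 * m + 1) = 2 * 2 ^ (2 * m) := by rw [pow_succ]; ring
  have h6 : 2 ^ (m + 1) ≤ 2 ^ (2 * m) := Nat.pow_le_pow_right (by norm_num) (by omega)
  have h7 := h3.trans_lt h4
  unfold N
  rw [if_neg hi, h5]
  clear h3 h4 h5
  generalize 2 ^ (m + 1) = r at h6 ⊢
  generalize 2 ^ (2 * m) = q at h6 h7 ⊢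
  generalize (2 * m' + 1) * 2 ^ (2 * m' + 2) = z at h7 ⊢
  split_ifs <;> omega

section edge

variable {G : Type*} [Group G] [Finite G] {Q : Type*} [Group Q]

/-- small element orders modulo the kernel give edges -/
theorem edge_of_bound (hm : 1 ≤ m) (hF : Fintype.card F = 2 ^ (2 * m + 1))
    (hG' : ∀ x : LS F m × LS F m, ∃ g : G, orderOf g = orderOf x) {f : G →* Q} {i j : ℕ} (hi : i < 4)
    (hj : j < 4) (hij : i ≠ j)
    (hb : ∀ g : G, ∃ M : ℕ, g ^ M ∈ f.ker ∧ ¬ N m i ∣ M ∧ ¬ N m j ∣ M) :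
    ∃ p r : ℕ, p.Prime ∧ r.Prime ∧ ty m p = i ∧ ty m r = j ∧ Edge f.ker p r := by
  obtain ⟨a, ha⟩ := exists_N (F := F) hm hF i
  obtain ⟨b, hb'⟩ := exists_N (F := F) hm hF j
  obtain ⟨g, hg⟩ := hG' (a, b)
  have hcop := coprime_N hm hi hj hij
  rw [Prod.orderOf_mk, ha, hb', hcop.lcm_eq_mul] at hg
  obtain ⟨M, hM, hMi, hMj⟩ := hb g
  have key : ∀ k k' : ℕ, orderOf g = k * k' → k' ≠ 0 → ¬ k ∣ M → ∃ p : ℕ, p.Prime ∧ p ∣ k ∧
      ∃ x ∈ f.ker, x ∈ zpowers g ∧ orderOf x = p := by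
    intro k k' hgk hk' hkM
    have h1 : orderOf (g ^ k') = k := by
      rw [orderOf_pow' _ hk', hgk, Nat.gcd_mul_left_left, Nat.mul_div_cancel _ (Nat.pos_of_ne_zero hk')]
    have h2 : (g ^ k') ^ M ≠ 1 := by
      intro h
      apply hkM
      rw [← h1]
      exact orderOf_dvd_of_pow_eq_one h
    have h3 : (g ^ k') ^ M ∈ f.ker := by
      rw [← pow_mul, mul_comm, pow_mul]
      exact pow_mem hM _
    have h4 : orderOf ((g ^ k') ^ M) ≠ 1 := fun h => h2 (orderOf_eq_one_iff.mp h)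
    obtain ⟨p, hp, hpd⟩ := Nat.exists_prime_and_dvd h4
    refine ⟨p, hp, hpd.trans (h1 ▸ orderOf_pow_dvd M), _, pow_mem h3 (orderOf ((g ^ k') ^ M) / p), ?_,
      orderOf_pow_orderOf_div (orderOf_pos _).ne' hpd⟩
    exact pow_mem (pow_mem (pow_mem (mem_zpowers g) _) _) _
  obtain ⟨p, hp, hpi, x, hx, hxg, hxp⟩ := key (N m i) (N m j) hg (N_ne_zero hm j) hMi
  obtain ⟨r, hr, hrj, y, hy, hyg, hyr⟩ := key (N m j) (N m i) (by rw [hg, mul_comm]) (N_ne_zero hm i) hMj
  refine ⟨p, r, hp, hr, ty_N hm hi hp hpi, ty_N hm hj hr hrj, x, hx, y, hy, ?_, hxp, hyr⟩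
  obtain ⟨c, rfl⟩ := mem_zpowers_iff.mp hxg
  obtain ⟨d, rfl⟩ := mem_zpowers_iff.mp hyg
  exact (Commute.refl g).zpow_zpow c d

/-- **One component over a smaller field is impossible.** -/
theorem one_small_false (hm : 1 ≤ m) (hF : Fintype.card F = 2 ^ (2 * m + 1)) (hG : OrdLe F m G)
    (hG' : ∀ x : LS F m × LS F m, ∃ g : G, orderOf g = orderOf x) {f : G →* Q}
    (hf : Function.Surjective f) (hS : Group.IsSolvable f.ker) {K : Subgroup Q} {F' : Type*} [Field F']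
    [Fintype F'] {m' : ℕ} (hm' : 1 ≤ m') (hF' : Fintype.card F' = 2 ^ (2 * m' + 1))
    (hd : (2 * m' + 1) ∣ (2 * m + 1)) (hne : m' ≠ m) (e : K ≃* LS F' m')
    (hK : ∀ x : Q, x ^ (2 * m' + 1) ∈ K) : False := by
  have hb : ∀ i j : ℕ, i ≠ 0 → j ≠ 0 → ∀ g : G, ∃ M : ℕ, g ^ M ∈ f.ker ∧ ¬ N m i ∣ M ∧ ¬ N m j ∣ M := by
    intro i j hi hj g
    have h1 := hK (f g)
    set t := orderOf (e ⟨_, h1⟩) with ht
    have h2 : t ≤ 2 ^ (2 * m' + 2) := orderOf_le hm' hF' _
    have h0 : 0 < t := orderOf_pos _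
    have h3 : (f g) ^ ((2 * m' + 1) * t) = 1 := by
      rw [pow_mul]
      have h4 : orderOf (⟨_, h1⟩ : K) = t := by rw [ht, MulEquiv.orderOf_eq]
      have h5 : (⟨_, h1⟩ : K) ^ t = 1 := by rw [← h4]; exact pow_orderOf_eq_one _
      exact congrArg Subtype.val h5
    have h6 : (2 * m' + 1) * t ≤ (2 * m' + 1) * 2 ^ (2 * m' + 2) := Nat.mul_le_mul_left _ h2
    have h7 : 0 < (2 * m' + 1) * t := Nat.mul_pos (by omega) h0
    refine ⟨(2 * m' + 1) * t, by rw [MonoidHom.mem_ker, map_pow]; exact h3, ?_, ?_⟩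
    · exact Nat.not_dvd_of_pos_of_lt h7 (h6.trans_lt (bound_lt hm' hd hne hi))
    · exact Nat.not_dvd_of_pos_of_lt h7 (h6.trans_lt (bound_lt hm' hd hne hj))
  set ι : LS F' m' →* Q := K.subtype.comp e.symm.toMonoidHom with hι
  have hιi : Function.Injective ι := K.subtype_injective.comp e.symm.injective
  have htop : Cov f ι ⊤ := by
    rw [Cov, ← MonoidHom.range_eq_map, MonoidHom.range_eq_top.mpr hf]
    exact le_top
  have W := hG.whyp hm hF
  have hL := khyp hm hm' hF' hd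
  obtain ⟨x, y, hx, hy, hx2, hy3, he⟩ := edge_of_bound hm hF hG' (f := f) (i := 2) (j := 3)
    (by norm_num) (by norm_num) (by norm_num) (hb 2 3 (by norm_num) (by norm_num))
  by_cases h2 : 2 ∣ Nat.card f.ker
  · obtain ⟨a, ha, b, hb', -, hax, hby⟩ := he
    exact not_all (tyHyp m) W hL hιi hS htop hx hy (by omega) (by omega) (by omega) (by omega)
      (by omega) h2 (dvd_card_of_mem ha hax) (dvd_card_of_mem hb' hby)
  · exact no_odd_edge (tyHyp m) W hL hιi hS htop h2 hx hy (by omega) (by omega) (by omega) he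

end edge

end Cfsg.Agent.H381.SzSmall
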